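import Groth.Agent.Thick15.ConormalStalk
import Groth.Agent.ModStalk.Exact

/-! Right exactness of the conormal sequence of universal thickenings. -/

set_option autoImplicit false
set_option backward.isDefEq.respectTransparency.types false
set_option backward.isDefEq.respectTransparency false
set_option linter.style.haveILetI false
universe u

open CategoryTheory CategoryTheory.Limits AlgebraicGeometry TopologicalSpace Opposite
open scoped TensorProduct

noncomputable section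

namespace Groth.Agent.Thick15

open OmegaLib

variable {Z : Scheme.{u}}

theorem hom_eq_zero_of_stalks {M N : Z.Modules} (f : M ⟶ N)
    (h : ∀ z (v : (DerSch.stalkFunctor Z z).obj M), (DerSch.stalkFunctor Z z).map f v = 0) : f = 0 := by
  ext U s
  show f.app U s = (0 : Γ(N, U))
  apply TopCat.Presheaf.section_ext ⟨N.presheaf, N.isSheaf⟩ U
  intro x hx
  show gm N U x hx (f.app U s) = gm N U x hx 0
  rw [← map_gm, h, gm_zero]

theorem epi_of_stalks {M N : Z.Modules} (f : M ⟶ N)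
    (h : ∀ z, Function.Surjective ((DerSch.stalkFunctor Z z).map f)) : Epi f :=
  Preadditive.epi_of_isZero_cokernel _ (ModStalk.isZero_of_stalks fun x => by
    haveI : Epi ((DerSch.stalkFunctor Z x).map f) := (ModuleCat.epi_iff_surjective _).2 (h x)
    exact IsZero.of_iso (isZero_cokernel_of_epi ((DerSch.stalkFunctor Z x).map f))
      (PreservesCokernel.iso (DerSch.stalkFunctor Z x) f))

theorem exact_of_stalks (S : ShortComplex Z.Modules)
    (h : ∀ z (v : (DerSch.stalkFunctor Z z).obj S.X₂), (DerSch.stalkFunctor Z z).map S.g v = 0 →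
      ∃ u, (DerSch.stalkFunctor Z z).map S.f u = v) : S.Exact := by
  rw [ShortComplex.exact_iff_isZero_homology]
  refine ModStalk.isZero_of_stalks fun x => ?_
  refine IsZero.of_iso ((ShortComplex.exact_iff_isZero_homology _).1 ?_)
    (S.mapHomologyIso (DerSch.stalkFunctor Z x)).symm
  exact (ShortComplex.moduleCat_exact_iff _).2 (h x)

theorem exists_pullId (M : Z.Modules) (z : Z) :
    ∃ P : (DerSch.stalkFunctor Z z).obj M →+ (DerSch.stalkFunctor Z z).obj ((Scheme.Modules.pullback (𝟙 Z)).obj M),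
      Function.Surjective P ∧ ∀ (U : Z.Opens) (hz : z ∈ U) (s : Γ(M, U)),
        P (gm M U z hz s) = gm _ ((𝟙 Z : Z ⟶ Z) ⁻¹ᵁ U) z hz (OmegaSh.pullSect (𝟙 Z) M U s) := by
  letI := ((𝟙 Z : Z ⟶ Z).stalkMap z).hom.toAlgebra
  obtain ⟨E, hE⟩ := exists_pullback_stalk_equiv (𝟙 Z) M z
  have hsurj : ∀ t : Z.presheaf.stalk z ⊗[Z.presheaf.stalk ((𝟙 Z : Z ⟶ Z) z)] ((DerSch.stalkFunctor Z ((𝟙 Z : Z ⟶ Z) z)).obj M),
      ∃ m, (1 : Z.presheaf.stalk z) ⊗ₜ[Z.presheaf.stalk ((𝟙 Z : Z ⟶ Z) z)] m = t := fun t => by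
    induction t using TensorProduct.induction_on with
    | zero => exact ⟨0, TensorProduct.tmul_zero _ _⟩
    | tmul b m =>
      obtain ⟨a, rfl⟩ := (𝟙 Z : Z ⟶ Z).stalkMap_surjective z b
      refine ⟨a • m, ?_⟩
      rw [← TensorProduct.smul_tmul, Algebra.smul_def, mul_one]
      rfl
    | add p q hp hq =>
      obtain ⟨m, rfl⟩ := hp
      obtain ⟨m', rfl⟩ := hq
      exact ⟨m + m', TensorProduct.tmul_add _ _ _⟩
  refine ⟨AddMonoidHom.mk' (fun m => E (1 ⊗ₜ m)) fun m m' => ?_, fun w => ?_, fun U hz s => hE U hz s⟩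
  · exact (congrArg E (TensorProduct.tmul_add _ _ _)).trans (map_add E _ _)
  · obtain ⟨t, rfl⟩ := E.surjective w
    obtain ⟨m, rfl⟩ := hsurj t
    exact ⟨m, rfl⟩

theorem pullId_naturality {M N : Z.Modules} (φ : M ⟶ N) (z : Z)
    {P : (DerSch.stalkFunctor Z z).obj M →+ (DerSch.stalkFunctor Z z).obj ((Scheme.Modules.pullback (𝟙 Z)).obj M)}
    (hP : ∀ (U : Z.Opens) (hz : z ∈ U) (s : Γ(M, U)),
      P (gm M U z hz s) = gm _ ((𝟙 Z : Z ⟶ Z) ⁻¹ᵁ U) z hz (OmegaSh.pullSect (𝟙 Z) M U s))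
    {Q : (DerSch.stalkFunctor Z z).obj N →+ (DerSch.stalkFunctor Z z).obj ((Scheme.Modules.pullback (𝟙 Z)).obj N)}
    (hQ : ∀ (U : Z.Opens) (hz : z ∈ U) (s : Γ(N, U)),
      Q (gm N U z hz s) = gm _ ((𝟙 Z : Z ⟶ Z) ⁻¹ᵁ U) z hz (OmegaSh.pullSect (𝟙 Z) N U s))
    (m : (DerSch.stalkFunctor Z z).obj M) :
    (DerSch.stalkFunctor Z z).map ((Scheme.Modules.pullback (𝟙 Z)).map φ) (P m) =
      Q ((DerSch.stalkFunctor Z z).map φ m) := by
  obtain ⟨U, hU, s, rfl⟩ := exists_gm _ m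
  rw [hP, map_gm, map_gm, hQ, pullSect_naturality]

variable {Y X Z' Y' Z'' : Scheme.{u}}

theorem conormal_sequence_exact {i : Z ⟶ Y} {b : Y ⟶ X}
    {i' : Z ⟶ Z'} {c : Z' ⟶ X} (hZ' : OmegaSh.IsUnivThickening (i ≫ b) i' c)
    {j : Y ⟶ Y'} {d : Y' ⟶ X} (hY' : OmegaSh.IsUnivThickening b j d)
    {m : Z' ⟶ Y'} (hm₁ : i' ≫ m = i ≫ j) (hm₂ : m ≫ d = c)
    {i'' : Z ⟶ Z''} {e : Z'' ⟶ Y} (hZ'' : OmegaSh.IsUnivThickening i i'' e)
    {n : Z'' ⟶ Z'} (hn₁ : i'' ≫ n = i') (hn₂ : n ≫ c = e ≫ b)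
    {ψ₁ : (Scheme.Modules.pullback i).obj (Omega.conormal j) ⟶ Omega.conormal i'}
    (hψ₁ : OmegaSh.IsConormalMap i' j m i ψ₁)
    {ψ₂ : (Scheme.Modules.pullback (𝟙 Z)).obj (Omega.conormal i') ⟶ Omega.conormal i''}
    (hψ₂ : OmegaSh.IsConormalMap i'' i' n (𝟙 Z) ψ₂) :
    ∃ w : (Scheme.Modules.pullback (𝟙 Z)).map ψ₁ ≫ ψ₂ = 0, (ShortComplex.mk _ _ w).Exact ∧ Epi ψ₂ := by
  haveI := hZ'.1.1.1
  haveI := hY'.1.1.1
  haveI := hZ''.1.1.1
  obtain ⟨x', -, hu'⟩ := hY'.2.2 Z Z'' i'' (e ≫ b) i hZ''.1 (by rw [← Category.assoc, hZ''.2.1])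
  have hnm : n ≫ m = e ≫ j := (hu' _ ⟨by rw [← Category.assoc, hn₁, hm₁],
    by rw [Category.assoc, hm₂, hn₂]⟩).trans (hu' _ ⟨by rw [← Category.assoc, hZ''.2.1],
    by rw [Category.assoc, hY'.2.1]⟩).symm
  have main : ∀ z : Z,
      (∀ v, (DerSch.stalkFunctor Z z).map ((Scheme.Modules.pullback (𝟙 Z)).map ψ₁ ≫ ψ₂) v = 0) ∧
      (∀ v, (DerSch.stalkFunctor Z z).map ψ₂ v = 0 →
        ∃ u, (DerSch.stalkFunctor Z z).map ((Scheme.Modules.pullback (𝟙 Z)).map ψ₁) u = v) ∧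
      Function.Surjective ((DerSch.stalkFunctor Z z).map ψ₂) := by
    intro z
    have pn : n (i'' z) = i' z := congrArg (fun f : Z ⟶ Z' => f z) hn₁
    have pm : m (i' z) = j (i z) := congrArg (fun f : Z ⟶ Y' => f z) hm₁
    have pe : e (i'' z) = i z := congrArg (fun f : Z ⟶ Y => f z) hZ''.2.1
    have pd : d (j (i z)) = c (i' z) := by
      rw [← pm, ← Scheme.Hom.comp_apply m d, hm₂]
    obtain ⟨κ', hκ'⟩ := exists_kappa hZ'.1 z (y := i' z) rfl
    obtain ⟨κ'', hκ''⟩ := exists_kappa hZ''.1 z (y := i'' z) rfl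
    obtain ⟨κj, hκj⟩ := exists_kappa hY'.1 (i z) (y := j (i z)) rfl
    obtain ⟨PA, hPAs, hPA⟩ := exists_pullId ((Scheme.Modules.pullback i).obj (Omega.conormal j)) z
    obtain ⟨PB, hPBs, hPB⟩ := exists_pullId (Omega.conormal i') z
    have hr : (tm c (x := i' z) rfl).hom = (tm m pm).hom.comp (tm d pd).hom := by
      rw [← CommRingCat.hom_comp, tm_factor hm₂ pm pd]
    have h1 : (tm i'' (x := z) rfl).hom.comp (tm n pn).hom = (tm i' (x := z) rfl).hom := by
      rw [← CommRingCat.hom_comp, tm_factor hn₁ rfl pn]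
    have h2 : (tm n pn).hom.comp (tm m pm).hom = (tm e pe).hom.comp (tm j (x := i z) rfl).hom := by
      rw [← CommRingCat.hom_comp, ← CommRingCat.hom_comp, tm_comm hnm pn pm pe rfl]
    have hsq : ∀ {A A' : Scheme.{u}} {t : A ⟶ A'}, MoreMor.IsFirstOrderThickening t → ∀ p : A,
        RingHom.ker (tm t (x := p) rfl).hom ^ 2 = ⊥ := fun ht p => by
      rw [tm_self]; exact ker_stalkMap_sq ht p
    have hsu : ∀ {A A' : Scheme.{u}} (t : A ⟶ A') [IsClosedImmersion t] (p : A),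
        Function.Surjective (tm t (x := p) rfl).hom := fun t _ p => by
      rw [tm_self]; exact t.stalkMap_surjective p
    obtain ⟨hnsurj, hnker⟩ := surjective_and_ker_of_lift (tm j (x := i z) rfl).hom (hsu j _) (tm d pd).hom (tm m pm).hom
      (tm c (x := i' z) rfl).hom hr (tm i' (x := z) rfl).hom (hsu i' _) (hsq hZ'.1 z) (tm e pe).hom
      (tm i'' (x := z) rfl).hom (hsu i'' _) (hsq hZ''.1 z) (tm n pn).hom h1 h2
      (fun A D _ _ π hπ hk β α w => existsUnique_lift_stalk hZ' z rfl rfl π hπ hk β α w)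
      (fun A D _ _ π hπ hk β α w => existsUnique_lift_stalk hZ'' z rfl pe π hπ hk β α w)
    have key2 : ∀ y, κ'' ((DerSch.stalkFunctor Z z).map ψ₂ (PB y)) = tm n pn (κ' y) := fun y => by
      obtain ⟨U', hU', s', rfl⟩ := exists_gm_conormalSect i' z y
      rw [hPB]
      exact kappa_conormalMap hψ₂ z (y := i'' z) rfl (w := z) rfl pn rfl hκ'' hκ' U' hU' s'
    let F₁ : (DerSch.stalkFunctor Z z).obj ((Scheme.Modules.pullback i).obj (Omega.conormal j)) →ₗ[Z.presheaf.stalk z]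
        (DerSch.stalkFunctor Z z).obj (Omega.conormal i') := ((DerSch.stalkFunctor Z z).map ψ₁).hom
    have hF : ∀ u, (DerSch.stalkFunctor Z z).map ((Scheme.Modules.pullback (𝟙 Z)).map ψ₁) (PA u) = PB (F₁ u) :=
      fun u => pullId_naturality ψ₁ z hPA hPB u
    letI := (i.stalkMap z).hom.toAlgebra
    obtain ⟨E, hE⟩ := exists_pullback_stalk_equiv i (Omega.conormal j) z
    have hgen : ∀ w, κ' (F₁ (E (1 ⊗ₜ w))) = tm m pm (κj w) := fun w => by
      obtain ⟨U', hU', s', rfl⟩ := exists_gm_conormalSect j (i z) w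
      rw [hE]
      exact kappa_conormalMap hψ₁ z (y := i' z) rfl (w := i z) rfl pm rfl hκ' hκj U' hU' s'
    have hlin : ∀ a u, κ' (F₁ ((tm i' (x := z) rfl) a • u)) = a * κ' (F₁ u) := fun a u => by
      rw [map_smul]; exact hκ'.2.2.1 a _
    have hin : ∀ u, κ' (F₁ u) ∈ RingHom.ker (tm n pn).hom := fun u => by
      obtain ⟨t, rfl⟩ := E.surjective u
      induction t using TensorProduct.induction_on with
      | zero => rw [map_zero, map_zero, map_zero]; exact Submodule.zero_mem _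
      | add p q hp hq => rw [map_add, map_add, map_add]; exact Submodule.add_mem _ hp hq
      | tmul r w =>
        obtain ⟨a, rfl⟩ := hsu i' z r
        rw [show (tm i' (x := z) rfl).hom a ⊗ₜ[Y.presheaf.stalk (i z)] w =
          (tm i' (x := z) rfl).hom a • ((1 : Z.presheaf.stalk z) ⊗ₜ[Y.presheaf.stalk (i z)] w) by
            rw [TensorProduct.smul_tmul', smul_eq_mul, mul_one], map_smul]
        refine (hlin a _).symm ▸ Ideal.mul_mem_left _ a ?_
        rw [hgen, hnker]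
        exact Ideal.mem_map_of_mem _ ((hκj.2.1 (κj w)).1 ⟨w, rfl⟩)
    have hout : ∀ a ∈ RingHom.ker (tm n pn).hom, ∃ u, κ' (F₁ u) = a := fun a ha => by
      rw [hnker, Ideal.map] at ha
      induction ha using Submodule.span_induction with
      | mem a ha =>
        obtain ⟨b, hb, rfl⟩ := ha
        obtain ⟨w, rfl⟩ := (hκj.2.1 b).2 hb
        exact ⟨E (1 ⊗ₜ w), hgen w⟩
      | zero => exact ⟨0, by rw [map_zero, map_zero]⟩
      | add p q _ _ hp hq =>
        obtain ⟨u, rfl⟩ := hp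
        obtain ⟨u', rfl⟩ := hq
        exact ⟨u + u', by rw [map_add, map_add]⟩
      | smul a p _ hp =>
        obtain ⟨u, rfl⟩ := hp
        exact ⟨(tm i' (x := z) rfl) a • u, hlin a u⟩
    refine ⟨fun v => ?_, fun v hv => ?_, fun v => ?_⟩
    · obtain ⟨u, rfl⟩ := hPAs v
      rw [Functor.map_comp]
      show (DerSch.stalkFunctor Z z).map ψ₂ ((DerSch.stalkFunctor Z z).map ((Scheme.Modules.pullback (𝟙 Z)).map ψ₁) (PA u)) = 0
      rw [hF]
      apply hκ''.1
      rw [key2, map_zero]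
      exact hin u
    · obtain ⟨y, rfl⟩ := hPBs v
      have h0 : tm n pn (κ' y) = 0 := by rw [← key2, hv, map_zero]
      obtain ⟨u, hu⟩ := hout _ h0
      exact ⟨PA u, by rw [hF, hκ'.1 hu]⟩
    · obtain ⟨a, ha⟩ := hnsurj (κ'' v)
      have : tm i' (x := z) rfl a = 0 := by
        show (tm i' (x := z) rfl).hom a = 0
        rw [← h1, RingHom.comp_apply, ha]
        exact (hκ''.2.1 (κ'' v)).1 ⟨v, rfl⟩
      obtain ⟨y, rfl⟩ := (hκ'.2.1 a).2 this
      exact ⟨PB y, hκ''.1 ((key2 y).trans ha)⟩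
  refine ⟨hom_eq_zero_of_stalks _ fun z v => (main z).1 v, exact_of_stalks _ fun z v hv => (main z).2.1 v hv,
    epi_of_stalks _ fun z => (main z).2.2⟩

end Groth.Agent.Thick15
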