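import Groth.Prelude.Def_Omega3
import Groth.Agent.FSchLib.Systems

/-! First order thickenings: base change. -/

universe u

open CategoryTheory Limits AlgebraicGeometry TopologicalSpace

namespace Groth.Agent.Thick15

variable {Z Z' W W' X : Scheme.{u}}

theorem isFirstOrderThickening_of_isPullback {i : Z ⟶ Z'} {g : W' ⟶ Z'} {iW : W ⟶ W'} {gW : W ⟶ Z}
    (sq : IsPullback iW gW g i) (hi : MoreMor.IsFirstOrderThickening i) :
    MoreMor.IsFirstOrderThickening iW := by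
  obtain ⟨⟨hci, hsur⟩, hsq⟩ := hi
  refine ⟨⟨MorphismProperty.of_isPullback (P := @IsClosedImmersion) sq.flip hci,
    MorphismProperty.of_isPullback (P := @Surjective) sq.flip hsur⟩, ?_⟩
  rw [FSchLib.ker_of_isPullback sq, ← FSchLib.comap_mul, hsq, Scheme.IdealSheafData.comap_bot]

theorem isPullback_resLE_of_eq (i : Z ⟶ Z') {V' : Z'.Opens} {V : Z.Opens} (hV : i ⁻¹ᵁ V' = V) :
    IsPullback (i.resLE V' V hV.ge) V.ι V'.ι i := by
  subst hV
  refine ((isPullback_morphismRestrict i V').of_iso (Iso.refl _) (Iso.refl _) (Iso.refl _) (Iso.refl _)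
    ?_ ?_ ?_ ?_)
  all_goals simp [Scheme.Hom.resLE_eq_morphismRestrict]

theorem range_subset_of_comp {T T' : Scheme.{u}} {j : T ⟶ T'} [Surjective j] {i : Z ⟶ Z'} {a : T ⟶ Z}
    {a' : T' ⟶ Z'} (h : j ≫ a' = a ≫ i) {V' : Z'.Opens} (hV : Set.range a ⊆ (i ⁻¹ᵁ V' : Set Z)) :
    Set.range a' ⊆ (V' : Set Z') := by
  rintro _ ⟨t', rfl⟩
  obtain ⟨t, rfl⟩ := j.surjective t'
  have h1 := congrArg (fun m : T ⟶ Z' => m t) h
  simp only [Scheme.Hom.comp_apply] at h1
  show a' (j t) ∈ (V' : Set Z')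
  rw [h1]
  exact hV ⟨t, rfl⟩

theorem isUnivThickening_resLE {h : Z ⟶ X} {i : Z ⟶ Z'} {h' : Z' ⟶ X} (hu : OmegaSh.IsUnivThickening h i h')
    (V : Z.Opens) (U : X.Opens) (hVU : V ≤ h ⁻¹ᵁ U) (V' : Z'.Opens) (hV' : i ⁻¹ᵁ V' = V)
    (hV'U : V' ≤ h' ⁻¹ᵁ U) :
    OmegaSh.IsUnivThickening (h.resLE U V hVU) (i.resLE V' V hV'.ge) (h'.resLE U V' hV'U) := by
  obtain ⟨hi, hih, huniv⟩ := hu
  refine ⟨isFirstOrderThickening_of_isPullback (isPullback_resLE_of_eq i hV') hi, ?_, ?_⟩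
  · rw [← cancel_mono U.ι, Category.assoc, Scheme.Hom.resLE_comp_ι, Scheme.Hom.resLE_comp_ι,
      Scheme.Hom.resLE_comp_ι_assoc, hih]
  intro T T' j b a hj hjb
  have := hj.1.2
  have hjb' : j ≫ b ≫ U.ι = (a ≫ V.ι) ≫ h := by
    rw [← Category.assoc, hjb, Category.assoc, Scheme.Hom.resLE_comp_ι, Category.assoc]
  obtain ⟨a', ⟨h1, h2⟩, huni⟩ := huniv T T' j (b ≫ U.ι) (a ≫ V.ι) hj hjb'
  have hr : Set.range a' ⊆ Set.range V'.ι := by
    rw [Scheme.Opens.range_ι]
    refine range_subset_of_comp h1 ?_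
    rw [hV']
    rintro _ ⟨t, rfl⟩
    exact (a t).2
  refine ⟨IsOpenImmersion.lift V'.ι a' hr, ⟨?_, ?_⟩, fun a'' ⟨e1, e2⟩ => ?_⟩
  · rw [← cancel_mono V'.ι, Category.assoc, IsOpenImmersion.lift_fac, Category.assoc, Scheme.Hom.resLE_comp_ι,
      h1, Category.assoc]
  · rw [← cancel_mono U.ι, Category.assoc, Scheme.Hom.resLE_comp_ι, IsOpenImmersion.lift_fac_assoc, h2]
  · rw [← cancel_mono V'.ι, IsOpenImmersion.lift_fac]
    refine huni _ ⟨?_, ?_⟩
    · rw [← Category.assoc, e1, Category.assoc, Scheme.Hom.resLE_comp_ι, Category.assoc]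
    · rw [Category.assoc, ← e2, Category.assoc, Scheme.Hom.resLE_comp_ι]

theorem isUnivThickening_pullback {Y : Scheme.{u}} {h : Z ⟶ X} {f : Z ⟶ W} {g : X ⟶ Y} {h' : W ⟶ Y}
    (hc : IsPullback h f g h') {j : W ⟶ W'} {k : W' ⟶ Y} (hu : OmegaSh.IsUnivThickening h' j k)
    (w : h ≫ g = (f ≫ j) ≫ k) :
    OmegaSh.IsUnivThickening h (pullback.lift h (f ≫ j) w) (pullback.fst g k) := by
  obtain ⟨hj, hjk, huniv⟩ := hu
  have sq : IsPullback (pullback.lift h (f ≫ j) w) f (pullback.snd g k) j :=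
    (IsPullback.of_bot (h₁₁ := f) (h₂₁ := pullback.snd g k) (v₁₁ := pullback.lift h (f ≫ j) w)
      (v₂₁ := pullback.fst g k) (h₃₁ := g) (v₁₂ := j) (v₂₂ := k)
      (by rw [pullback.lift_fst, hjk]; exact hc.flip) (pullback.lift_snd _ _ _).symm
      (IsPullback.of_hasPullback g k).flip).flip
  refine ⟨isFirstOrderThickening_of_isPullback sq hj, pullback.lift_fst _ _ _, ?_⟩
  intro T T' t b a ht htb
  have htb' : t ≫ b ≫ g = (a ≫ f) ≫ h' := by
    rw [← Category.assoc, htb, Category.assoc, hc.w, Category.assoc]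
  obtain ⟨a', ⟨h1, h2⟩, huni⟩ := huniv T T' t (b ≫ g) (a ≫ f) ht htb'
  refine ⟨pullback.lift b a' h2.symm, ⟨?_, pullback.lift_fst _ _ _⟩, fun a'' ⟨e1, e2⟩ => ?_⟩
  · apply pullback.hom_ext
    · rw [Category.assoc, pullback.lift_fst, htb, Category.assoc, pullback.lift_fst]
    · rw [Category.assoc, pullback.lift_snd, h1, Category.assoc, Category.assoc, pullback.lift_snd]
  · apply pullback.hom_ext
    · rw [pullback.lift_fst, e2]
    · rw [pullback.lift_snd]
      refine huni _ ⟨?_, ?_⟩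
      · rw [← Category.assoc, e1, Category.assoc, pullback.lift_snd, Category.assoc]
      · rw [Category.assoc, ← pullback.condition, ← Category.assoc, e2]

theorem exists_isUnivThickening_of_comp {Y Y' : Scheme.{u}} {a : Z ⟶ Y} {b : Y ⟶ X} {i : Z ⟶ Z'} {c : Z' ⟶ X}
    (hZ : OmegaSh.IsUnivThickening (a ≫ b) i c) {j : Y ⟶ Y'} {d : Y' ⟶ X} (hY : OmegaSh.IsUnivThickening b j d) :
    ∃ (m : Z' ⟶ Y') (hm : i ≫ m = a ≫ j), m ≫ d = c ∧
      OmegaSh.IsUnivThickening a (pullback.lift a i hm.symm) (pullback.fst j m) := by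
  obtain ⟨hi, hic, hZu⟩ := hZ
  obtain ⟨hj, hjd, hYu⟩ := hY
  obtain ⟨m, ⟨hm, hmd⟩, -⟩ := hYu Z Z' i c a hi hic
  refine ⟨m, hm, hmd, ?_, pullback.lift_fst _ _ _, ?_⟩
  · have := hi.1.1
    have := hi.1.2
    have := hj.1.1
    have hsnd : IsClosedImmersion (pullback.snd j m) := inferInstance
    have he : pullback.lift a i hm.symm ≫ pullback.snd j m = i := pullback.lift_snd _ _ _
    have hl : IsClosedImmersion (pullback.lift a i hm.symm) := by
      have : IsClosedImmersion (pullback.lift a i hm.symm ≫ pullback.snd j m) := by rw [he]; infer_instance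
      exact IsClosedImmersion.of_comp _ (pullback.snd j m)
    refine ⟨⟨hl, ⟨fun p => ?_⟩⟩, ?_⟩
    · obtain ⟨z, hz⟩ := i.surjective (pullback.snd j m p)
      refine ⟨z, (pullback.snd j m).isClosedEmbedding.injective ?_⟩
      rw [← Scheme.Hom.comp_apply, he]
      exact hz
    · have hk : (pullback.lift a i hm.symm).ker = i.ker.comap (pullback.snd j m) := by
        rw [FSchLib.ker_eq_comap_ker_comp (pullback.lift a i hm.symm) (pullback.snd j m), he]
      rw [hk, ← FSchLib.comap_mul, hi.2, Scheme.IdealSheafData.comap_bot]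
  intro T T' t b' a' ht htb
  obtain ⟨α, ⟨hα1, hα2⟩, hαu⟩ := hZu T T' t (b' ≫ b) a' ht (by rw [← Category.assoc, htb, Category.assoc])
  obtain ⟨β, -, hβu⟩ := hYu T T' t (b' ≫ b) (a' ≫ a) ht (by rw [← Category.assoc, htb])
  have hαm : α ≫ m = b' ≫ j := (hβu (α ≫ m) ⟨by rw [← Category.assoc, hα1, Category.assoc, hm, Category.assoc],
    by rw [Category.assoc, hmd, hα2]⟩).trans (hβu (b' ≫ j) ⟨by rw [← Category.assoc, htb],
    by rw [Category.assoc, hjd]⟩).symm
  refine ⟨pullback.lift b' α hαm.symm, ⟨?_, pullback.lift_fst _ _ _⟩, fun x ⟨e1, e2⟩ => ?_⟩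
  · apply pullback.hom_ext
    · rw [Category.assoc, pullback.lift_fst, htb, Category.assoc, pullback.lift_fst]
    · rw [Category.assoc, pullback.lift_snd, hα1, Category.assoc, pullback.lift_snd]
  · apply pullback.hom_ext
    · rw [pullback.lift_fst, e2]
    · rw [pullback.lift_snd]
      refine hαu _ ⟨?_, ?_⟩
      · rw [← Category.assoc, e1, Category.assoc, pullback.lift_snd]
      · rw [← hmd, Category.assoc, ← pullback.condition_assoc, ← Category.assoc, e2, hjd]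

end Groth.Agent.Thick15
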