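import Groth.Prelude.Def_Omega3
import Groth.Agent.Thick15.FOT

/-! Universal thickenings: transport, restriction along open immersions, locality. -/

universe u

open CategoryTheory Limits AlgebraicGeometry TopologicalSpace

namespace Groth.Agent.Thick15

variable {Z Z' X : Scheme.{u}} {h : Z ⟶ X} {i : Z ⟶ Z'} {h' : Z' ⟶ X}

theorem surjective_mor {T T' : Scheme.{u}} {t : T ⟶ T'} (ht : MoreMor.IsFirstOrderThickening t) :
    Function.Surjective t := by
  have := ht.1.2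
  exact t.surjective

theorem range_subset_of_isPullback {Y Y' P : Scheme.{u}} {f : P ⟶ Y'} {e : P ⟶ Y} {o : Y' ⟶ Z'} {g : Y ⟶ Z'}
    (sq : IsPullback f e o g) {y : Y} (hy : g y ∈ Set.range o) : y ∈ Set.range e := by
  obtain ⟨y', hy'⟩ := hy
  obtain ⟨p, -, hp⟩ := Scheme.exists_preimage_of_isPullback sq y' y hy'
  exact ⟨p, hp⟩

/-- Restriction of a universal thickening along an open immersion. -/
theorem isUnivThickening_of_isPullback (hu : OmegaSh.IsUnivThickening h i h') {V V' : Scheme.{u}}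
    {iV : V ⟶ V'} {e : V ⟶ Z} {o : V' ⟶ Z'} [IsOpenImmersion o] (sq : IsPullback iV e o i) :
    OmegaSh.IsUnivThickening (e ≫ h) iV (o ≫ h') := by
  obtain ⟨hi, hih, huniv⟩ := hu
  refine ⟨isFirstOrderThickening_of_isPullback sq hi, by rw [sq.w_assoc, hih], ?_⟩
  intro T T' t b a ht htb
  obtain ⟨a', ⟨h1, h2⟩, huni⟩ := huniv T T' t b (a ≫ e) ht (by rw [htb, Category.assoc])
  have hr : Set.range a' ⊆ Set.range o := by
    rintro _ ⟨x, rfl⟩
    obtain ⟨s, rfl⟩ := surjective_mor ht x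
    refine ⟨iV (a s), ?_⟩
    rw [← Scheme.Hom.comp_apply t a', h1, ← Scheme.Hom.comp_apply, ← Scheme.Hom.comp_apply, ← Category.assoc,
      Category.assoc a iV o, sq.w]
    rfl
  refine ⟨IsOpenImmersion.lift o a' hr, ⟨?_, ?_⟩, fun a'' ⟨e1, e2⟩ => ?_⟩
  · rw [← cancel_mono o, Category.assoc, IsOpenImmersion.lift_fac, Category.assoc, sq.w, h1, Category.assoc]
  · rw [IsOpenImmersion.lift_fac_assoc, h2]
  · rw [← cancel_mono o, IsOpenImmersion.lift_fac]
    refine huni _ ⟨?_, by rw [Category.assoc, e2]⟩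
    rw [← Category.assoc, e1, Category.assoc, sq.w, Category.assoc]

theorem isUnivThickening_precomp_iso (hu : OmegaSh.IsUnivThickening h i h') {Z₁ : Scheme.{u}} (e : Z₁ ⟶ Z) [IsIso e] :
    OmegaSh.IsUnivThickening (e ≫ h) (e ≫ i) h' := by
  simpa using isUnivThickening_of_isPullback hu (o := 𝟙 Z')
    (IsPullback.of_vert_isIso (fst := e ≫ i) (snd := e) (f := 𝟙 Z') (g := i) ⟨by simp⟩)

/-- Composition with an open immersion. -/
theorem isUnivThickening_postcomp {U : Scheme.{u}} {g : Z ⟶ U} {g' : Z' ⟶ U} (hu : OmegaSh.IsUnivThickening g i g')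
    (o : U ⟶ X) [IsOpenImmersion o] : OmegaSh.IsUnivThickening (g ≫ o) i (g' ≫ o) := by
  obtain ⟨hi, hih, huniv⟩ := hu
  refine ⟨hi, by rw [reassoc_of% hih], ?_⟩
  intro T T' t b a ht htb
  have hr : Set.range b ⊆ Set.range o := by
    rintro _ ⟨x, rfl⟩
    obtain ⟨s, rfl⟩ := surjective_mor ht x
    refine ⟨g (a s), ?_⟩
    rw [← Scheme.Hom.comp_apply t b, htb]
    rfl
  obtain ⟨a', ⟨h1, h2⟩, huni⟩ := huniv T T' t (IsOpenImmersion.lift o b hr) a ht
    (by rw [← cancel_mono o, Category.assoc, IsOpenImmersion.lift_fac, htb, Category.assoc])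
  refine ⟨a', ⟨h1, by rw [reassoc_of% h2, IsOpenImmersion.lift_fac]⟩, fun a'' ⟨e1, e2⟩ => huni _ ⟨e1, ?_⟩⟩
  rw [← cancel_mono o, Category.assoc, IsOpenImmersion.lift_fac, e2]

theorem exists_iso {Z'' : Scheme.{u}} {i₂ : Z ⟶ Z''} {h₂ : Z'' ⟶ X} (h₁ : OmegaSh.IsUnivThickening h i h')
    (h₂u : OmegaSh.IsUnivThickening h i₂ h₂) :
    ∃ φ : Z' ≅ Z'', i ≫ φ.hom = i₂ ∧ φ.hom ≫ h₂ = h' := by
  obtain ⟨u, ⟨u1, u2⟩, -⟩ := h₂u.2.2 Z Z' i h' (𝟙 Z) h₁.1 (by rw [h₁.2.1, Category.id_comp])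
  obtain ⟨v, ⟨v1, v2⟩, -⟩ := h₁.2.2 Z Z'' i₂ h₂ (𝟙 Z) h₂u.1 (by rw [h₂u.2.1, Category.id_comp])
  rw [Category.id_comp] at u1 v1
  have k1 : u ≫ v = 𝟙 Z' := (h₁.2.2 Z Z' i h' (𝟙 Z) h₁.1 (by rw [h₁.2.1, Category.id_comp])).unique
    ⟨by rw [reassoc_of% u1, v1, Category.id_comp], by rw [Category.assoc, v2, u2]⟩ ⟨by simp, by simp⟩
  have k2 : v ≫ u = 𝟙 Z'' := (h₂u.2.2 Z Z'' i₂ h₂ (𝟙 Z) h₂u.1 (by rw [h₂u.2.1, Category.id_comp])).unique
    ⟨by rw [reassoc_of% v1, u1, Category.id_comp], by rw [Category.assoc, u2, v2]⟩ ⟨by simp, by simp⟩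
  exact ⟨⟨u, v, k1, k2⟩, u1, u2⟩

theorem eq_bot_of_comap_eq_bot {ι : Type*} {Y : ι → Scheme.{u}} (o : ∀ k, Y k ⟶ Z') [∀ k, IsOpenImmersion (o k)]
    (ho : ∀ z : Z', ∃ k, z ∈ Set.range (o k)) (I : Z'.IdealSheafData) (hI : ∀ k, I.comap (o k) = ⊥) : I = ⊥ := by
  let J := {W : Z'.affineOpens // ∃ k, W.1 ≤ (o k).opensRange}
  refine Scheme.IdealSheafData.ext_of_iSup_eq_top (fun W : J => W.1) (top_le_iff.1 fun z _ => ?_) fun W => ?_
  · obtain ⟨k, hk⟩ := ho z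
    obtain ⟨W, hW, hzW, hWk⟩ := Opens.isBasis_iff_nbhd.1 Z'.isBasis_affineOpens (U := (o k).opensRange) hk
    exact Opens.mem_iSup.2 ⟨⟨⟨W, hW⟩, k, hWk⟩, hzW⟩
  · obtain ⟨W, k, hk⟩ := W
    rw [Scheme.IdealSheafData.ideal_bot, Pi.bot_apply]
    refine le_bot_iff.1 fun x hx => ?_
    haveI : IsIso ((o k).app W.1) := Scheme.Hom.isIso_app _ _ hk
    have h1 := FSchLib.ideal_comap_eq_map (o k) I ⟨(o k) ⁻¹ᵁ W.1, W.2.preimage_of_isOpenImmersion (o k) hk⟩ W le_rfl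
    rw [hI k, Scheme.IdealSheafData.ideal_bot, Pi.bot_apply] at h1
    have h2 : ((o k).appLE W.1 _ le_rfl).hom x = 0 := Ideal.mem_bot.1 (h1 ▸ Ideal.mem_map_of_mem _ hx)
    rw [Scheme.Hom.appLE_eq_app] at h2
    exact Ideal.mem_bot.2 ((ConcreteCategory.bijective_of_isIso ((o k).app W.1)).injective (h2.trans (map_zero _).symm))

variable {ι : Type*} {V V' : ι → Scheme.{u}} (iV : ∀ k, V k ⟶ V' k) (e : ∀ k, V k ⟶ Z) (o : ∀ k, V' k ⟶ Z')
  [∀ k, IsOpenImmersion (o k)]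

omit [∀ k, IsOpenImmersion (o k)] in
theorem surjective_of_cover (ho : ∀ z : Z', ∃ k, z ∈ Set.range (o k)) (sq : ∀ k, IsPullback (iV k) (e k) (o k) i)
    (hs : ∀ k, Function.Surjective (iV k)) : Function.Surjective i := by
  intro z
  obtain ⟨k, y, rfl⟩ := ho z
  obtain ⟨v, rfl⟩ := hs k y
  exact ⟨e k v, by rw [← Scheme.Hom.comp_apply, ← (sq k).w]; rfl⟩

theorem isFirstOrderThickening_of_cover (ho : ∀ z : Z', ∃ k, z ∈ Set.range (o k))
    (sq : ∀ k, IsPullback (iV k) (e k) (o k) i) (hv : ∀ k, MoreMor.IsFirstOrderThickening (iV k)) :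
    MoreMor.IsFirstOrderThickening i := by
  haveI hci : IsClosedImmersion i := by
    let 𝒰 : Z'.OpenCover := Scheme.Cover.mkOfCovers ι V' o ho
    refine IsZariskiLocalAtTarget.of_openCover (P := @IsClosedImmersion) 𝒰 fun k => ?_
    have hk : (sq k).flip.isoPullback.hom ≫ pullback.snd i (o k) = iV k := (sq k).flip.isoPullback_hom_snd
    haveI := (hv k).1.1
    show IsClosedImmersion (pullback.snd i (o k))
    rw [(Iso.eq_inv_comp _).2 hk]
    infer_instance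
  refine ⟨⟨hci, ⟨surjective_of_cover iV e o ho sq fun k => surjective_mor (hv k)⟩⟩, ?_⟩
  refine eq_bot_of_comap_eq_bot o ho _ fun k => ?_
  rw [FSchLib.comap_mul, ← FSchLib.ker_of_isPullback (sq k)]
  exact (hv k).2

theorem isUnivThickening_of_cover (ho : ∀ z : Z', ∃ k, z ∈ Set.range (o k))
    (sq : ∀ k, IsPullback (iV k) (e k) (o k) i) (hih : i ≫ h' = h)
    (hu : ∀ k, OmegaSh.IsUnivThickening (e k ≫ h) (iV k) (o k ≫ h')) :
    OmegaSh.IsUnivThickening h i h' := by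
  refine ⟨isFirstOrderThickening_of_cover iV e o ho sq fun k => (hu k).1, hih, ?_⟩
  intro T T' t b a ht htb
  have he : ∀ k, IsOpenImmersion (e k) := fun k =>
    MorphismProperty.of_isPullback (P := @IsOpenImmersion) (sq k) inferInstance
  let IsLift {P : Scheme.{u}} (g : P ⟶ T') (x : P ⟶ Z') : Prop :=
    (∀ (Q : Scheme.{u}) (u : Q ⟶ P) (v : Q ⟶ T), u ≫ g = v ≫ t → u ≫ x = v ≫ a ≫ i) ∧ x ≫ h' = g ≫ b
  have hpre : ∀ {P R : Scheme.{u}} (r : R ⟶ P) {g : P ⟶ T'} {x : P ⟶ Z'}, IsLift g x → IsLift (r ≫ g) (r ≫ x) :=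
    fun r g x ⟨p1, p2⟩ => ⟨fun Q u v w => by
      rw [← Category.assoc]
      exact p1 Q (u ≫ r) v (by rw [Category.assoc, w]), by rw [Category.assoc, p2, Category.assoc]⟩
  have hloc : ∀ {P : Scheme.{u}} (g : P ⟶ T') (k : ι),
      (∀ s : T, t s ∈ Set.range g → a s ∈ Set.range (e k)) → ∃! x, IsLift g x := by
    intro P g k hk
    have sqP : IsPullback (pullback.fst g t) (pullback.snd g t) g t := IsPullback.of_hasPullback g t
    have hP := isFirstOrderThickening_of_isPullback sqP ht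
    haveI := he k
    have hr : Set.range (pullback.snd g t ≫ a) ⊆ Set.range (e k) := by
      rintro _ ⟨q, rfl⟩
      refine hk _ ⟨pullback.fst g t q, ?_⟩
      rw [← Scheme.Hom.comp_apply, pullback.condition]
      rfl
    obtain ⟨y, ⟨y1, y2⟩, yu⟩ := (hu k).2.2 _ _ (pullback.fst g t) (g ≫ b) (IsOpenImmersion.lift (e k) _ hr) hP
      (by rw [IsOpenImmersion.lift_fac_assoc, pullback.condition_assoc, htb, Category.assoc])
    refine ⟨y ≫ o k, ⟨fun Q u v w => ?_, by rw [Category.assoc, y2]⟩, fun x ⟨x1, x2⟩ => ?_⟩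
    · rw [← sqP.lift_fst u v w, Category.assoc, reassoc_of% y1, (sq k).w, IsOpenImmersion.lift_fac_assoc,
        Category.assoc, sqP.lift_snd_assoc]
    · have hx : pullback.fst g t ≫ x = pullback.snd g t ≫ a ≫ i := x1 _ _ _ sqP.w
      have hxr : Set.range x ⊆ Set.range (o k) := by
        rintro _ ⟨p, rfl⟩
        obtain ⟨q, rfl⟩ := surjective_mor hP p
        obtain ⟨v, hv⟩ := hr ⟨q, rfl⟩
        refine ⟨iV k v, ?_⟩
        rw [← Scheme.Hom.comp_apply, ← Scheme.Hom.comp_apply, hx, (sq k).w, Scheme.Hom.comp_apply, hv]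
        rfl
      rw [← yu (IsOpenImmersion.lift (o k) x hxr) ⟨?_, ?_⟩, IsOpenImmersion.lift_fac]
      · rw [← cancel_mono (o k), Category.assoc, IsOpenImmersion.lift_fac, hx, Category.assoc, (sq k).w,
          IsOpenImmersion.lift_fac_assoc, Category.assoc]
      · rw [IsOpenImmersion.lift_fac_assoc, x2]
  have htind : Topology.IsInducing t := by
    haveI := ht.1.1
    exact t.isClosedEmbedding.isInducing
  have hW : ∀ k, ∃ W : T'.Opens, ∀ s, t s ∈ W ↔ a s ∈ Set.range (e k) := by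
    intro k
    haveI := he k
    obtain ⟨W, hW, hWe⟩ := htind.isOpen_iff.1 ((e k).opensRange.2.preimage a.continuous)
    exact ⟨⟨W, hW⟩, fun s => Set.ext_iff.1 hWe s⟩
  choose W hW using hW
  have hcov : ⨆ k, W k = ⊤ := top_le_iff.1 fun x _ => by
    obtain ⟨s, rfl⟩ := surjective_mor ht x
    obtain ⟨k, hk⟩ := ho (i (a s))
    exact Opens.mem_iSup.2 ⟨k, (hW k s).2 (range_subset_of_isPullback (sq k) hk)⟩
  let 𝒰 := T'.openCoverOfIsOpenCover W hcov
  have hWk : ∀ k, ∃! x, IsLift (W k).ι x := fun k => hloc _ k fun s hs => (hW k s).1 (by simpa using hs)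
  choose x hx hxu using fun k => hWk k
  have hcompat : ∀ k l, pullback.fst (𝒰.f k) (𝒰.f l) ≫ x k = pullback.snd (𝒰.f k) (𝒰.f l) ≫ x l := fun k l => by
    refine (hloc (pullback.fst (W k).ι (W l).ι ≫ (W k).ι) k fun s hs => (hW k s).1 ?_).unique
      (hpre _ (hx k)) ?_
    · obtain ⟨p, hp⟩ := hs
      rw [← hp]
      exact (pullback.fst (W k).ι (W l).ι p).2
    · rw [pullback.condition]
      exact hpre _ (hx l)
  refine ⟨𝒰.glueMorphisms x hcompat, ⟨?_, ?_⟩, fun a'' ⟨e1, e2⟩ => ?_⟩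
  · refine Scheme.Cover.hom_ext (𝒰.pullback₁ t) _ _ fun k => ?_
    show pullback.fst t (𝒰.f k) ≫ t ≫ _ = pullback.fst t (𝒰.f k) ≫ a ≫ i
    rw [pullback.condition_assoc, Scheme.Cover.ι_glueMorphisms]
    exact (hx k).1 _ _ _ pullback.condition.symm
  · refine 𝒰.hom_ext _ _ fun k => ?_
    rw [Scheme.Cover.ι_glueMorphisms_assoc]
    exact (hx k).2
  · refine 𝒰.hom_ext _ _ fun k => ?_
    rw [Scheme.Cover.ι_glueMorphisms]
    refine hxu k _ ⟨fun Q u v w => ?_, ?_⟩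
    · show u ≫ (W k).ι ≫ a'' = _
      rw [reassoc_of% w, e1]
    · show ((W k).ι ≫ a'') ≫ h' = _
      rw [Category.assoc, e2]

end Groth.Agent.Thick15
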