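import Groth.Prelude.Def_Omega3
import Groth.Agent.Thick15.Glue
import Groth.Agent.FlatMorGeom.FormallySmoothHom
import Mathlib.RingTheory.Ideal.Quotient.Operations

/-! Affine universal thickenings. -/

universe u

open CategoryTheory Limits AlgebraicGeometry TopologicalSpace

namespace Groth.Agent.Thick15

theorem appTop_ker_sq {T T' : Scheme.{u}} [IsAffine T'] {t : T ⟶ T'} (ht : MoreMor.IsFirstOrderThickening t) :
    RingHom.ker t.appTop.hom ^ 2 = ⊥ := by
  haveI := ht.1.1
  have := congrFun (congrArg Scheme.IdealSheafData.ideal ht.2) ⟨⊤, isAffineOpen_top T'⟩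
  simp only [Scheme.IdealSheafData.ideal_mul, Pi.mul_apply, Scheme.IdealSheafData.ideal_bot, Pi.bot_apply,
    Scheme.Hom.ker_apply] at this
  rw [pow_two]
  exact this

theorem existsUnique_lift_ring {R S S' : Type u} [CommRing R] [CommRing S] [CommRing S'] [Algebra R S] [Algebra R S']
    {q : S' →ₐ[R] S} (hq : OmegaSh.IsUnivThickeningRing R S S' q) {A B : Type u} [CommRing A] [CommRing B]
    (π : A →+* B) (hπ : Function.Surjective π) (hker : RingHom.ker π ^ 2 = ⊥) (β : R →+* A) (α : S →+* B)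
    (w : π.comp β = α.comp (algebraMap R S)) :
    ∃! l : S' →+* A, π.comp l = α.comp q.toRingHom ∧ l.comp (algebraMap R S') = β := by
  letI := β.toAlgebra
  let e := RingHom.quotientKerEquivOfSurjective hπ
  have he : ∀ x, e (Ideal.Quotient.mk _ x) = π x := fun x => rfl
  let a : S →ₐ[R] A ⧸ RingHom.ker π :=
    { e.symm.toRingHom.comp α with
      commutes' := fun r => by
        show e.symm (α (algebraMap R S r)) = Ideal.Quotient.mk _ (β r)
        rw [RingEquiv.symm_apply_eq, he]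
        exact (RingHom.congr_fun w r).symm }
  obtain ⟨l, hl, hlu⟩ := hq.2.2 A (RingHom.ker π) hker a
  refine ⟨l.toRingHom, ⟨RingHom.ext fun x => ?_, RingHom.ext fun r => l.commutes r⟩, fun m ⟨m1, m2⟩ => ?_⟩
  · show π (l x) = α (q x)
    rw [← he, ← e.apply_symm_apply (α (q x))]
    exact congrArg e (AlgHom.congr_fun hl x)
  · have := hlu ⟨m, fun r => RingHom.congr_fun m2 r⟩ (AlgHom.ext fun x => e.injective ?_)
    · exact RingHom.ext fun x => AlgHom.congr_fun this x
    · show e (Ideal.Quotient.mk _ (m x)) = e (e.symm (α (q x)))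
      rw [he, e.apply_symm_apply]
      exact RingHom.congr_fun m1 x

theorem existsUnique_lift_affine {R S S' : CommRingCat.{u}} {φ : R ⟶ S} {φ' : R ⟶ S'} {q : S' ⟶ S}
    (hu : ∀ (A B : Type u) [CommRing A] [CommRing B] (π : A →+* B), Function.Surjective π → RingHom.ker π ^ 2 = ⊥ →
      ∀ (β : R →+* A) (α : S →+* B), π.comp β = α.comp φ.hom →
        ∃! l : S' →+* A, π.comp l = α.comp q.hom ∧ l.comp φ'.hom = β)
    {T T' : Scheme.{u}} [IsAffine T'] {t : T ⟶ T'} (ht : MoreMor.IsFirstOrderThickening t)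
    (b : T' ⟶ Spec R) (a : T ⟶ Spec S) (w : t ≫ b = a ≫ Spec.map φ) :
    ∃! a' : T' ⟶ Spec S', t ≫ a' = a ≫ Spec.map q ∧ a' ≫ Spec.map φ' = b := by
  haveI := ht.1.1
  obtain ⟨hT, hsur⟩ := IsClosedImmersion.isAffine_surjective_of_isAffine t
  have hnat : ∀ {P Q : Scheme.{u}} [IsAffine P] [IsAffine Q] (f : P ⟶ Q), P.isoSpec.inv ≫ f = Spec.map f.appTop ≫ Q.isoSpec.inv :=
    fun f => (Scheme.isoSpec_inv_naturality f).symm
  obtain ⟨α, hα⟩ := Spec.map_surjective (T.isoSpec.inv ≫ a)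
  obtain ⟨β, hβ⟩ := Spec.map_surjective (T'.isoSpec.inv ≫ b)
  have hw : β ≫ t.appTop = φ ≫ α := Spec.map_injective (by
    rw [Spec.map_comp, Spec.map_comp, hβ, hα, ← Category.assoc, ← hnat t, Category.assoc, w, Category.assoc])
  obtain ⟨l, ⟨l1, l2⟩, lu⟩ := hu _ _ t.appTop.hom hsur (appTop_ker_sq ht) β.hom α.hom
    (by rw [← CommRingCat.hom_comp, hw, CommRingCat.hom_comp])
  refine ⟨T'.isoSpec.hom ≫ Spec.map (CommRingCat.ofHom l), ⟨?_, ?_⟩, fun a' ⟨e1, e2⟩ => ?_⟩
  · rw [← cancel_epi T.isoSpec.inv, ← Category.assoc, hnat t, Category.assoc, Iso.inv_hom_id_assoc, ← Category.assoc _ a,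
      ← hα, ← Spec.map_comp, ← Spec.map_comp]
    congr 1
    ext1
    exact l1
  · rw [← cancel_epi T'.isoSpec.inv, Category.assoc, Iso.inv_hom_id_assoc, ← hβ, ← Spec.map_comp]
    congr 1
    ext1
    exact l2
  · obtain ⟨m, hm⟩ := Spec.map_surjective (T'.isoSpec.inv ≫ a')
    rw [← Iso.inv_comp_eq, ← hm]
    congr 1
    ext1
    rw [CommRingCat.hom_ofHom]
    refine lu m.hom ⟨?_, ?_⟩
    · rw [← CommRingCat.hom_comp, ← CommRingCat.hom_comp]
      congr 1
      apply Spec.map_injective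
      rw [Spec.map_comp, Spec.map_comp, hm, hα, ← Category.assoc, ← hnat t, Category.assoc, e1, Category.assoc]
    · rw [← CommRingCat.hom_comp]
      congr 1
      apply Spec.map_injective
      rw [Spec.map_comp, hm, hβ, Category.assoc, e2]

theorem isUnivThickening_spec {R S S' : Type u} [CommRing R] [CommRing S] [CommRing S'] [Algebra R S] [Algebra R S']
    {q : S' →ₐ[R] S} (hq : OmegaSh.IsUnivThickeningRing R S S' q) :
    OmegaSh.IsUnivThickening (Spec.map (CommRingCat.ofHom (algebraMap R S))) (Spec.map (CommRingCat.ofHom q.toRingHom))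
      (Spec.map (CommRingCat.ofHom (algebraMap R S'))) := by
  haveI hci : IsClosedImmersion (Spec.map (CommRingCat.ofHom q.toRingHom)) :=
    IsClosedImmersion.spec_of_surjective _ hq.1
  have hnil : RingHom.ker q.toRingHom ≤ nilradical S' := fun x hx => ⟨2, Ideal.mem_bot.1 (hq.2.1 ▸ Ideal.pow_mem_pow hx 2)⟩
  have hsurj : Function.Surjective (PrimeSpectrum.comap q.toRingHom) := by
    rw [← Set.range_eq_univ, range_comap_of_surjective _ _ hq.1, PrimeSpectrum.zeroLocus_eq_univ_iff]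
    exact hnil
  refine ⟨⟨⟨hci, ⟨hsurj⟩⟩,
    FlatMorGeom.ker_SpecMap_sq _ hq.2.1⟩, ?_, ?_⟩
  · rw [← Spec.map_comp]
    congr 1
    ext1
    exact RingHom.ext fun r => q.commutes r
  intro T T' t b a ht w
  have hu : ∀ (A B : Type u) [CommRing A] [CommRing B] (π : A →+* B), Function.Surjective π → RingHom.ker π ^ 2 = ⊥ →
      ∀ (β : R →+* A) (α : S →+* B), π.comp β = α.comp (CommRingCat.ofHom (algebraMap R S)).hom →
        ∃! l : S' →+* A, π.comp l = α.comp (CommRingCat.ofHom q.toRingHom).hom ∧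
          l.comp (CommRingCat.ofHom (algebraMap R S')).hom = β :=
    fun A B _ _ π hπ hk β α w => existsUnique_lift_ring hq π hπ hk β α w
  let IsLift {P : Scheme.{u}} (g : P ⟶ T') (x : P ⟶ Spec (CommRingCat.of S')) : Prop :=
    pullback.fst g t ≫ x = pullback.snd g t ≫ a ≫ Spec.map (CommRingCat.ofHom q.toRingHom) ∧
      x ≫ Spec.map (CommRingCat.ofHom (algebraMap R S')) = g ≫ b
  have haff : ∀ W : T'.affineOpens, ∃! x, IsLift W.1.ι x := fun W => by
    haveI : IsAffine W.1.toScheme := W.2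
    have := existsUnique_lift_affine (φ := CommRingCat.ofHom (algebraMap R S)) (φ' := CommRingCat.ofHom (algebraMap R S')) (q := CommRingCat.ofHom q.toRingHom) hu
      (isFirstOrderThickening_of_isPullback (IsPullback.of_hasPullback W.1.ι t) ht) (W.1.ι ≫ b)
      (pullback.snd W.1.ι t ≫ a) (by rw [pullback.condition_assoc, w, Category.assoc])
    simpa only [Category.assoc] using this
  choose x hx hxu using haff
  have hcompat : ∀ {W W' : T'.affineOpens} (hWW : W ≤ W'), T'.homOfLE hWW ≫ x W' = x W := fun {W W'} hWW => by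
    refine hxu W _ ⟨?_, by rw [Category.assoc, (hx W').2, Scheme.homOfLE_ι_assoc]⟩
    have : pullback.fst W.1.ι t ≫ T'.homOfLE hWW = pullback.map W.1.ι t W'.1.ι t (T'.homOfLE hWW) (𝟙 _) (𝟙 _)
        (by simp) (by simp) ≫ pullback.fst W'.1.ι t := by rw [pullback.map, pullback.lift_fst]
    rw [reassoc_of% this, (hx W').1, pullback.lift_snd_assoc, Category.assoc, Category.id_comp]
  let 𝒰 := T'.directedAffineCover
  have hc : ∀ {W W' : 𝒰.I₀} (hWW : W ⟶ W'), 𝒰.trans hWW ≫ x W' = x W := fun {W W'} hWW => hcompat (leOfHom hWW)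
  let g := 𝒰.glueMorphismsOfLocallyDirected (fun W => x W) hc
  have key : ∀ W : T'.affineOpens, W.1.ι ≫ g = x W := fun W =>
    Scheme.OpenCover.map_glueMorphismsOfLocallyDirected (𝒰 := 𝒰) _ hc W
  refine ⟨g, ⟨?_, ?_⟩, fun a'' ⟨e1, e2⟩ => ?_⟩
  · refine Scheme.Cover.hom_ext (𝒰.pullback₁ t) _ _ fun (W : T'.affineOpens) => ?_
    show pullback.fst t W.1.ι ≫ t ≫ _ = pullback.fst t W.1.ι ≫ a ≫ _
    rw [pullback.condition_assoc, key, ← cancel_epi (pullbackSymmetry W.1.ι t).hom, ← Category.assoc,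
      pullbackSymmetry_hom_comp_snd, ← Category.assoc (pullbackSymmetry W.1.ι t).hom, pullbackSymmetry_hom_comp_fst,
      (hx W).1]
  · refine Scheme.Cover.hom_ext 𝒰 _ _ fun (W : T'.affineOpens) => ?_
    show W.1.ι ≫ g ≫ _ = W.1.ι ≫ b
    rw [← Category.assoc, key]
    exact (hx W).2
  · refine Scheme.Cover.hom_ext 𝒰 _ _ fun (W : T'.affineOpens) => ?_
    show W.1.ι ≫ a'' = W.1.ι ≫ g
    rw [key]
    refine hxu W _ ⟨?_, ?_⟩
    · show pullback.fst W.1.ι t ≫ W.1.ι ≫ a'' = _
      rw [pullback.condition_assoc, e1]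
    · show (W.1.ι ≫ a'') ≫ _ = _
      rw [Category.assoc, e2]

end Groth.Agent.Thick15
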