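import Groth.Prelude.Def_Omega3
import Mathlib.Algebra.TrivSqZeroExt
import Mathlib.RingTheory.Kaehler.Basic
import Mathlib.RingTheory.Kaehler.TensorProduct
import Mathlib.RingTheory.Unramified.Basic

/-! Derivations out of a universal first order thickening. -/

set_option autoImplicit false
set_option linter.unusedSectionVars false
set_option linter.style.haveILetI false

open scoped TensorProduct

noncomputable section

namespace Groth.Agent.Thick15

universe u

variable {A B B' : Type u} [CommRing A] [CommRing B] [CommRing B'] [Algebra A B] [Algebra A B']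
  {π : B' →ₐ[A] B}

theorem existsUnique_derivation (h : OmegaSh.IsUnivThickeningRing A B B' π) {M : Type u} [AddCommGroup M]
    [Module B' M] (hM : ∀ n, π n = 0 → ∀ m : M, n • m = 0) (δ₀ : A →+ M)
    (hδ₀ : ∀ a a', δ₀ (a * a') = algebraMap A B' a • δ₀ a' + algebraMap A B' a' • δ₀ a) :
    ∃! δ : B' →+ M, (∀ x y, δ (x * y) = x • δ y + y • δ x) ∧ ∀ a, δ (algebraMap A B' a) = δ₀ a := by
  obtain ⟨hs, hk, huniv⟩ := h
  letI : Module B'ᵐᵒᵖ M := Module.compHom M ((RingHom.id B').fromOpposite mul_comm)
  haveI : IsCentralScalar B' M := ⟨fun _ _ => rfl⟩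
  have h1 : δ₀ 1 = 0 := by
    have := hδ₀ 1 1
    rw [one_mul, (algebraMap A B').map_one, one_smul] at this
    exact left_eq_add.1 this
  let ι : A →+* TrivSqZeroExt B' M :=
    { toFun := fun a => TrivSqZeroExt.inl (algebraMap A B' a) + TrivSqZeroExt.inr (δ₀ a)
      map_one' := TrivSqZeroExt.ext (by simp) (by simp [h1])
      map_mul' := fun a a' => TrivSqZeroExt.ext (by simp) (by simp [hδ₀])
      map_zero' := TrivSqZeroExt.ext (by simp) (by simp)
      map_add' := fun a a' => TrivSqZeroExt.ext (by simp) (by simp) }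
  letI algC : Algebra A (TrivSqZeroExt B' M) := ι.toAlgebra
  have halg : ∀ a, algebraMap A (TrivSqZeroExt B' M) a = TrivSqZeroExt.inl (algebraMap A B' a) + TrivSqZeroExt.inr (δ₀ a) :=
    fun _ => rfl
  let fstR : TrivSqZeroExt B' M →+* B' := (TrivSqZeroExt.fstHom B' B' M).toRingHom
  have hfst : ∀ x, fstR x = x.fst := fun _ => rfl
  let I : Ideal (TrivSqZeroExt B' M) := RingHom.ker (π.toRingHom.comp fstR)
  have hI : I ^ 2 = ⊥ := by
    rw [pow_two, ← le_bot_iff, Ideal.mul_le]
    intro x hx y hy
    rw [Ideal.mem_bot]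
    have hx' : π x.fst = 0 := hx
    have hy' : π y.fst = 0 := hy
    have hxy : x.fst * y.fst = 0 := by
      have := Ideal.mul_mem_mul (show x.fst ∈ RingHom.ker π.toRingHom from hx')
        (show y.fst ∈ RingHom.ker π.toRingHom from hy')
      rwa [← pow_two, hk, Ideal.mem_bot] at this
    refine TrivSqZeroExt.ext (by simpa using hxy) ?_
    simp [hM _ hx', hM _ hy']
  have hex : ∀ b : B, ∃ x : B', π x = b := hs
  let e : B →ₐ[A] TrivSqZeroExt B' M ⧸ I :=
    { toFun := fun b => Ideal.Quotient.mk I (TrivSqZeroExt.inl (hex b).choose)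
      map_one' := by
        rw [← map_one (Ideal.Quotient.mk I), Ideal.Quotient.eq]
        show π (TrivSqZeroExt.inl _ - 1 : TrivSqZeroExt B' M).fst = 0
        simp [(hex 1).choose_spec]
      map_mul' := fun b b' => by
        rw [← map_mul, Ideal.Quotient.eq]
        show π (_ : TrivSqZeroExt B' M).fst = 0
        simp [(hex _).choose_spec]
      map_zero' := by
        rw [Ideal.Quotient.eq_zero_iff_mem]
        exact (hex 0).choose_spec
      map_add' := fun b b' => by
        rw [← map_add, Ideal.Quotient.eq]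
        show π (_ : TrivSqZeroExt B' M).fst = 0
        simp [(hex _).choose_spec]
      commutes' := fun a => by
        rw [IsScalarTower.algebraMap_apply A (TrivSqZeroExt B' M) (TrivSqZeroExt B' M ⧸ I), Ideal.Quotient.algebraMap_eq,
          Ideal.Quotient.eq, halg]
        show π (_ : TrivSqZeroExt B' M).fst = 0
        simp [(hex _).choose_spec] }
  obtain ⟨g, hg, hguniq⟩ := huniv _ I hI e
  have hπg : ∀ x, π (g x).fst = π x := fun x => by
    have h2 := DFunLike.congr_fun hg x
    have h3 : π (g x - TrivSqZeroExt.inl (hex (π x)).choose : TrivSqZeroExt B' M).fst = 0 := Ideal.Quotient.eq.1 h2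
    simpa [(hex _).choose_spec, sub_eq_zero] using h3
  have hgid : ∀ x, (g x).fst = x := by
    obtain ⟨g', -, hu⟩ := huniv B' (RingHom.ker π.toRingHom) hk
      ((Ideal.quotientKerAlgEquivOfSurjective hs).symm.toAlgHom)
    have key : ∀ k : B' →ₐ[A] B', (∀ x, π (k x) = π x) → k = g' := fun k hk' => hu k (AlgHom.ext fun x => by
      show Ideal.Quotient.mk _ (k x) = (Ideal.quotientKerAlgEquivOfSurjective hs).symm (π x)
      rw [AlgEquiv.eq_symm_apply]
      exact hk' x)
    let k : B' →ₐ[A] B' :=
      { toRingHom := fstR.comp g.toRingHom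
        commutes' := fun a => by
          show fstR (g (algebraMap A B' a)) = _
          rw [g.commutes, halg, hfst]
          simp }
    intro x
    exact DFunLike.congr_fun ((key k hπg).trans (key (AlgHom.id A B') fun _ => rfl).symm) x
  let δ : B' →+ M := AddMonoidHom.mk' (fun x => (g x).snd) fun x y => by rw [map_add, TrivSqZeroExt.snd_add]
  refine ⟨δ, ⟨fun x y => ?_, fun a => ?_⟩, fun δ' hδ' => ?_⟩
  · show (g (x * y)).snd = _
    rw [map_mul, TrivSqZeroExt.snd_mul, hgid, hgid, op_smul_eq_smul]
    rfl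
  · show (g (algebraMap A B' a)).snd = _
    rw [g.commutes, halg]
    simp
  · have h1' : δ' 1 = 0 := by
      have := hδ'.1 1 1
      rw [one_mul, one_smul] at this
      exact left_eq_add.1 this
    let g₂ : B' →ₐ[A] TrivSqZeroExt B' M :=
      { toFun := fun x => TrivSqZeroExt.inl x + TrivSqZeroExt.inr (δ' x)
        map_one' := TrivSqZeroExt.ext (by simp) (by simp [h1'])
        map_mul' := fun x y => TrivSqZeroExt.ext (by simp) (by simp [hδ'.1])
        map_zero' := TrivSqZeroExt.ext (by simp) (by simp)
        map_add' := fun x y => TrivSqZeroExt.ext (by simp) (by simp)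
        commutes' := fun a => by rw [halg, hδ'.2] }
    have hg₂ : g₂ = g := hguniq g₂ (AlgHom.ext fun x => by
      show Ideal.Quotient.mk I (g₂ x) = Ideal.Quotient.mk I (TrivSqZeroExt.inl (hex (π x)).choose)
      rw [Ideal.Quotient.eq]
      show π (g₂ x - TrivSqZeroExt.inl (hex (π x)).choose : TrivSqZeroExt B' M).fst = 0
      simp [g₂, (hex _).choose_spec])
    ext x
    show δ' x = (g x).snd
    rw [← hg₂]
    simp [g₂]

theorem formallyUnramified (h : OmegaSh.IsUnivThickeningRing A B B' π) : Algebra.FormallyUnramified A B' := by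
  refine ⟨?_⟩
  let N : Ideal B' := RingHom.ker π.toRingHom
  let W : Submodule B' Ω[B'⁄A] := N • ⊤
  obtain ⟨δ, -, huniq⟩ := existsUnique_derivation h (M := Ω[B'⁄A] ⧸ W) (fun n hn m => by
    obtain ⟨w, rfl⟩ := Submodule.Quotient.mk_surjective W m
    rw [← Submodule.Quotient.mk_smul, Submodule.Quotient.mk_eq_zero]
    exact Submodule.smul_mem_smul hn Submodule.mem_top) 0 (fun a a' => by simp)
  let δD : B' →+ Ω[B'⁄A] ⧸ W := W.mkQ.toAddMonoidHom.comp (KaehlerDifferential.D A B').toLinearMap.toAddMonoidHom
  have e1 : δD = δ := huniq δD ⟨fun x y => by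
      show Submodule.Quotient.mk (KaehlerDifferential.D A B' (x * y)) = _
      rw [Derivation.leibniz, Submodule.Quotient.mk_add, Submodule.Quotient.mk_smul, Submodule.Quotient.mk_smul]
      rfl,
    fun a => by
      show Submodule.Quotient.mk (KaehlerDifferential.D A B' (algebraMap A B' a)) = _
      rw [Derivation.map_algebraMap]; rfl⟩
  have e2 : (0 : B' →+ Ω[B'⁄A] ⧸ W) = δ := huniq 0 ⟨fun x y => by simp, fun a => by simp⟩
  have htop : (⊤ : Submodule B' Ω[B'⁄A]) = W := by
    refine le_antisymm ?_ le_top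
    refine (KaehlerDifferential.span_range_derivation A B').ge.trans (Submodule.span_le.2 ?_)
    rintro _ ⟨x, rfl⟩
    exact (Submodule.Quotient.mk_eq_zero W).1 (DFunLike.congr_fun (e1.trans e2.symm) x)
  refine subsingleton_of_forall_eq 0 fun w => ?_
  have hbot : (⊤ : Submodule B' Ω[B'⁄A]) = ⊥ :=
    calc (⊤ : Submodule B' Ω[B'⁄A]) = N • ⊤ := htop
      _ = N • (N • ⊤) := congrArg (N • ·) htop
      _ = N ^ 2 • ⊤ := by rw [pow_two, mul_smul]
      _ = ⊥ := by rw [show N ^ 2 = ⊥ from h.2.1, Submodule.bot_smul]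
  exact (Submodule.mem_bot B').1 (hbot ▸ Submodule.mem_top)

theorem bijective_baseChange {R : Type u} [CommRing R] [Algebra R A] [Algebra R B'] [IsScalarTower R A B']
    [Algebra B' B] [IsScalarTower A B' B]
    (h : OmegaSh.IsUnivThickeningRing A B B' (IsScalarTower.toAlgHom A B' B)) :
    Function.Bijective ((KaehlerDifferential.mapBaseChange R A B').baseChange B) := by
  haveI := formallyUnramified h
  have hsurj : Function.Surjective (KaehlerDifferential.mapBaseChange R A B') := fun z =>
    (KaehlerDifferential.exact_mapBaseChange_map R A B' z).1 (Subsingleton.elim _ _)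
  refine ⟨?_, LinearMap.lTensor_surjective B hsurj⟩
  let M := B ⊗[B'] (B' ⊗[A] Ω[A⁄R])
  let c : Ω[A⁄R] → M := fun y => (1 : B) ⊗ₜ[B'] ((1 : B') ⊗ₜ[A] y)
  have hc : ∀ (a : A) (y : Ω[A⁄R]), c (a • y) = algebraMap A B' a • c y := fun a y => by
    show (1 : B) ⊗ₜ[B'] ((1 : B') ⊗ₜ[A] (a • y)) = algebraMap A B' a • ((1 : B) ⊗ₜ[B'] ((1 : B') ⊗ₜ[A] y))
    rw [← TensorProduct.tmul_smul, algebraMap_smul, TensorProduct.tmul_smul a]
  have hcadd : ∀ y z, c (y + z) = c y + c z := fun y z => by
    simp only [c, TensorProduct.tmul_add]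
  let δ₀ : A →+ M := AddMonoidHom.mk' (fun a => c (KaehlerDifferential.D R A a))
    fun a a' => by rw [map_add, hcadd]
  obtain ⟨δ, ⟨hδ1, hδ2⟩, -⟩ := existsUnique_derivation h (M := M) (fun n hn m => by
    induction m using TensorProduct.induction_on with
    | zero => rw [smul_zero]
    | add x y hx hy => rw [smul_add, hx, hy, add_zero]
    | tmul b y =>
      rw [TensorProduct.smul_tmul', Algebra.smul_def]
      rw [show algebraMap B' B n = 0 from hn, zero_mul, TensorProduct.zero_tmul]) δ₀
    (fun a a' => by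
      show c (KaehlerDifferential.D R A (a * a')) = _
      rw [Derivation.leibniz, hcadd, hc, hc]
      rfl)
  letI : Module R M := Module.compHom M (algebraMap R B')
  haveI : IsScalarTower R B' M := IsScalarTower.of_algebraMap_smul fun _ _ => rfl
  let δl : B' →ₗ[R] M :=
    { δ with
      map_smul' := fun r x => by
        show δ (r • x) = r • δ x
        rw [Algebra.smul_def, hδ1, IsScalarTower.algebraMap_apply R A B', hδ2,
          show δ₀ (algebraMap R A r) = 0 by simp [δ₀, c, Derivation.map_algebraMap],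
          smul_zero, add_zero, ← IsScalarTower.algebraMap_apply, algebraMap_smul] }
  let δD : Derivation R B' M := Derivation.mk' δl hδ1
  let G : B ⊗[B'] Ω[B'⁄R] →ₗ[B] M := δD.liftKaehlerDifferential.liftBaseChange B
  have key : ∀ y : Ω[A⁄R], G ((1 : B) ⊗ₜ[B'] KaehlerDifferential.mapBaseChange R A B' ((1 : B') ⊗ₜ[A] y)) = c y := by
    intro y
    have hy : y ∈ Submodule.span A (Set.range (KaehlerDifferential.D R A)) := by
      rw [KaehlerDifferential.span_range_derivation]; trivial
    induction hy using Submodule.span_induction with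
    | mem z hz =>
      obtain ⟨a, rfl⟩ := hz
      rw [KaehlerDifferential.mapBaseChange_tmul, one_smul, KaehlerDifferential.map_D, LinearMap.liftBaseChange_tmul,
        one_smul, Derivation.liftKaehlerDifferential_comp_D]
      exact hδ2 a
    | zero => simp [c]
    | add z w _ _ hz hw => rw [TensorProduct.tmul_add, map_add, TensorProduct.tmul_add, map_add, hz, hw, hcadd]
    | smul a z _ hz =>
      rw [hc, ← hz, TensorProduct.tmul_smul, ← algebraMap_smul B' a ((1 : B') ⊗ₜ[A] z),
        (KaehlerDifferential.mapBaseChange R A B').map_smul, TensorProduct.tmul_smul,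
        ← algebraMap_smul B (algebraMap A B' a), G.map_smul, algebraMap_smul]
  refine Function.LeftInverse.injective (g := G) fun m => ?_
  induction m using TensorProduct.induction_on with
  | zero => rw [map_zero, map_zero]
  | add x y hx hy => rw [map_add, map_add, hx, hy]
  | tmul b w =>
    induction w using TensorProduct.induction_on with
    | zero => rw [TensorProduct.tmul_zero, map_zero, map_zero]
    | add x y hx hy => rw [TensorProduct.tmul_add, map_add, map_add, hx, hy]
    | tmul b' y =>
      rw [LinearMap.baseChange_tmul]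
      have e1 : b ⊗ₜ[B'] KaehlerDifferential.mapBaseChange R A B' (b' ⊗ₜ[A] y) =
          (b * algebraMap B' B b') • ((1 : B) ⊗ₜ[B'] KaehlerDifferential.mapBaseChange R A B' ((1 : B') ⊗ₜ[A] y)) := by
        rw [show b' ⊗ₜ[A] y = b' • ((1 : B') ⊗ₜ[A] y) by rw [TensorProduct.smul_tmul', smul_eq_mul, mul_one],
          (KaehlerDifferential.mapBaseChange R A B').map_smul, ← TensorProduct.smul_tmul,
          Algebra.smul_def, TensorProduct.smul_tmul', smul_eq_mul, mul_one, mul_comm b]
      rw [e1, G.map_smul, key, TensorProduct.smul_tmul', smul_eq_mul, mul_one]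
      rw [show b' ⊗ₜ[A] y = b' • ((1 : B') ⊗ₜ[A] y) by rw [TensorProduct.smul_tmul', smul_eq_mul, mul_one],
        ← TensorProduct.smul_tmul, Algebra.smul_def, mul_comm b]

end Groth.Agent.Thick15
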