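import Groth.Prelude.Def_Omega3
import Mathlib.RingTheory.Localization.Basic
import Mathlib.RingTheory.Ideal.Quotient.Nilpotent

/-! Localisation of square-zero surjections and of universal thickenings of rings. -/

set_option autoImplicit false

namespace Groth.Agent.Thick15

universe u

variable {B' B B'S BS : Type u} [CommRing B'] [CommRing B] [CommRing B'S] [CommRing BS]
  [Algebra B' B'S] [Algebra B BS] (T : Submonoid B') [IsLocalization T B'S] (π : B' →+* B)
  [IsLocalization (T.map π) BS] (πS : B'S →+* BS) (hπS : ∀ x, πS (algebraMap B' B'S x) = algebraMap B BS (π x))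

include T hπS in
theorem surjective_of_loc (hs : Function.Surjective π) : Function.Surjective πS := by
  intro y
  obtain ⟨b, t, rfl⟩ := IsLocalization.exists_mk'_eq (T.map π) y
  obtain ⟨b', rfl⟩ := hs b
  obtain ⟨t', ht', e⟩ := t.2
  refine ⟨IsLocalization.mk' B'S b' ⟨t', ht'⟩, ?_⟩
  rw [IsLocalization.eq_mk'_iff_mul_eq, ← e, ← hπS, ← hπS, ← map_mul, IsLocalization.mk'_spec B'S b' ⟨t', ht'⟩]

include T hπS in
theorem ker_eq_map : RingHom.ker πS = (RingHom.ker π).map (algebraMap B' B'S) := by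
  refine le_antisymm (fun y hy => ?_) (Ideal.map_le_iff_le_comap.2 fun x hx => ?_)
  · obtain ⟨x, t, rfl⟩ := IsLocalization.exists_mk'_eq T y
    have h0 : algebraMap B BS (π x) = 0 := by
      rw [← hπS, ← IsLocalization.mk'_spec B'S x t, map_mul, RingHom.mem_ker.1 hy, zero_mul]
    obtain ⟨⟨s, u, hu, rfl⟩, hs⟩ := (IsLocalization.map_eq_zero_iff (T.map π) BS _).1 h0
    rw [show IsLocalization.mk' B'S x t = IsLocalization.mk' B'S (u * x) (⟨u, hu⟩ * t) from
      IsLocalization.mk'_eq_of_eq (by push_cast; ring), IsLocalization.mk'_eq_mul_mk'_one]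
    exact Ideal.mul_mem_right _ _ (Ideal.mem_map_of_mem _ (by rw [RingHom.mem_ker, map_mul]; exact hs))
  · rw [Ideal.mem_comap, RingHom.mem_ker, hπS, RingHom.mem_ker.1 hx, map_zero]

include T hπS in
theorem ker_sq (h : RingHom.ker π ^ 2 = ⊥) : RingHom.ker πS ^ 2 = ⊥ := by
  rw [ker_eq_map T π πS hπS, ← Ideal.map_pow, h, Ideal.map_bot]

include T hπS in
/-- Unique extension to the localisations of a lifting datum. -/
theorem existsUnique_lift {A : Type u} [CommRing A] (I : Ideal A) (hI : I ^ 2 = ⊥)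
    (a : BS →+* A ⧸ I) (a₀ : B' →+* A)
    (h : (Ideal.Quotient.mk I).comp a₀ = (a.comp (algebraMap B BS)).comp π) :
    ∃! a' : B'S →+* A, a'.comp (algebraMap B' B'S) = a₀ ∧ (Ideal.Quotient.mk I).comp a' = a.comp πS := by
  have hu : ∀ t : T, IsUnit (a₀ t) := fun t => by
    rw [← IsNilpotent.isUnit_quotient_mk_iff (I := I) ⟨2, hI⟩]
    rw [show Ideal.Quotient.mk I (a₀ t) = a (algebraMap B BS (π t)) from RingHom.congr_fun h t]
    exact (IsLocalization.map_units BS (⟨π t, t, t.2, rfl⟩ : T.map π)).map a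
  refine ⟨IsLocalization.lift hu, ⟨IsLocalization.lift_comp hu, ?_⟩, fun a' ha' => ?_⟩
  · refine IsLocalization.ringHom_ext T (RingHom.ext fun x => ?_)
    show Ideal.Quotient.mk I (IsLocalization.lift hu (algebraMap B' B'S x)) = a (πS (algebraMap B' B'S x))
    rw [IsLocalization.lift_eq, hπS]
    exact RingHom.congr_fun h x
  · exact IsLocalization.ringHom_ext T (ha'.1.trans (IsLocalization.lift_comp hu).symm)

end Groth.Agent.Thick15
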