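import Groth.Prelude.Def_Omega3
import Groth.Agent.Thick15.Affine
import Groth.Agent.Thick15.Deriv
import Groth.Agent.Thick15.Localize

/-! A universal thickening of schemes gives universal thickenings of local rings. -/

universe u

open CategoryTheory Limits AlgebraicGeometry TopologicalSpace

namespace Groth.Agent.Thick15

variable {Z Z' X : Scheme.{u}} {h : Z ⟶ X} {i : Z ⟶ Z'} {h' : Z' ⟶ X}

theorem ker_stalkMap_sq (hi : MoreMor.IsFirstOrderThickening i) (z : Z) :
    RingHom.ker (i.stalkMap z).hom ^ 2 = ⊥ := by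
  haveI := hi.1.1
  rw [pow_two, ← le_bot_iff, Ideal.mul_le]
  have key : ∀ a ∈ RingHom.ker (i.stalkMap z).hom, ∃ (W : Z'.Opens) (hW : i z ∈ W) (s : Γ(Z', W)),
      Z'.presheaf.germ W (i z) hW s = a ∧ i.app W s = 0 := by
    intro a ha
    obtain ⟨U, hU, s, rfl⟩ := Z'.presheaf.exists_germ_eq (x := i z) a
    have h0 : Z.presheaf.germ (i ⁻¹ᵁ U) z hU (i.app U s) = 0 := by
      rw [← Scheme.Hom.germ_stalkMap_apply]; exact ha
    rw [← map_zero (Z.presheaf.germ (i ⁻¹ᵁ U) z hU).hom] at h0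
    obtain ⟨P, hzP, k₁, k₂, hk⟩ := TopCat.Presheaf.germ_eq Z.presheaf z hU hU _ _ h0
    obtain ⟨O, hO, hOe⟩ := i.isClosedEmbedding.isInducing.isOpen_iff.1 P.2
    have hzO : i z ∈ O := (Set.ext_iff.1 hOe z).2 hzP
    let W : Z'.Opens := U ⊓ ⟨O, hO⟩
    refine ⟨W, ⟨hU, hzO⟩, Z'.presheaf.map (homOfLE inf_le_left).op s, TopCat.Presheaf.germ_res_apply _ _ _ _ _, ?_⟩
    have hWP : i ⁻¹ᵁ W ≤ P := fun w hw => (Set.ext_iff.1 hOe w).1 hw.2
    show (Z'.presheaf.map (homOfLE _).op ≫ i.app W) s = 0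
    rw [i.naturality (homOfLE _).op]
    show Z.presheaf.map _ (i.app U s) = 0
    have e : ∀ k : Opposite.op (i ⁻¹ᵁ U) ⟶ Opposite.op (i ⁻¹ᵁ W), Z.presheaf.map k (i.app U s) = 0 := fun k => by
      rw [show k = k₁.op ≫ (homOfLE hWP).op from Subsingleton.elim _ _, Functor.map_comp, CommRingCat.comp_apply, hk,
        map_zero, map_zero]
    exact e _
  intro a ha b hb
  obtain ⟨W₁, hW₁, s, rfl, hs⟩ := key a ha
  obtain ⟨W₂, hW₂, t, rfl, ht⟩ := key b hb
  obtain ⟨W, hW, hzW, hWle⟩ := Opens.isBasis_iff_nbhd.1 Z'.isBasis_affineOpens (U := W₁ ⊓ W₂) ⟨hW₁, hW₂⟩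
  have hker : i.ker.ideal ⟨W, hW⟩ * i.ker.ideal ⟨W, hW⟩ = ⊥ := by
    have := congrFun (congrArg Scheme.IdealSheafData.ideal hi.2) ⟨W, hW⟩
    simpa only [Scheme.IdealSheafData.ideal_mul, Pi.mul_apply, Scheme.IdealSheafData.ideal_bot, Pi.bot_apply] using this
  have hmem : ∀ {U : Z'.Opens} (hle : W ≤ U) (r : Γ(Z', U)), i.app U r = 0 →
      Z'.presheaf.map (homOfLE hle).op r ∈ i.ker.ideal ⟨W, hW⟩ := fun {U} hle r hr => by
    rw [Scheme.Hom.ker_apply]
    show (Z'.presheaf.map (homOfLE hle).op ≫ i.app W) r = 0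
    rw [i.naturality (homOfLE hle).op]
    show Z.presheaf.map _ (i.app U r) = 0
    rw [hr, map_zero]
  have h0 : Z'.presheaf.map (homOfLE (hWle.trans inf_le_left)).op s *
      Z'.presheaf.map (homOfLE (hWle.trans inf_le_right)).op t = 0 :=
    Ideal.mem_bot.1 (hker ▸ Ideal.mul_mem_mul (hmem _ s hs) (hmem _ t ht))
  rw [Ideal.mem_bot, ← TopCat.Presheaf.germ_res_apply _ (homOfLE (hWle.trans inf_le_left)) (i z) hzW s,
    ← TopCat.Presheaf.germ_res_apply _ (homOfLE (hWle.trans inf_le_right)) (i z) hzW t, ← map_mul, h0, map_zero]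

/-- The stalks of a universal thickening form a universal thickening of rings. -/
theorem isUnivThickeningRing_stalk (hu : OmegaSh.IsUnivThickening h i h') (z : Z)
    [Algebra (X.presheaf.stalk (h' (i z))) (Z'.presheaf.stalk (i z))]
    [Algebra (X.presheaf.stalk (h' (i z))) (Z.presheaf.stalk z)]
    (π : Z'.presheaf.stalk (i z) →ₐ[X.presheaf.stalk (h' (i z))] Z.presheaf.stalk z)
    (hA : algebraMap (X.presheaf.stalk (h' (i z))) (Z'.presheaf.stalk (i z)) = (h'.stalkMap (i z)).hom)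
    (hπ : π.toRingHom = (i.stalkMap z).hom) :
    OmegaSh.IsUnivThickeningRing (X.presheaf.stalk (h' (i z))) (Z.presheaf.stalk z) (Z'.presheaf.stalk (i z)) π := by
  haveI := hu.1.1.1
  have hsurj : Function.Surjective π := fun w => by
    obtain ⟨v, hv⟩ := i.stalkMap_surjective z w
    exact ⟨v, (RingHom.congr_fun hπ v).trans hv⟩
  refine ⟨hsurj, by rw [hπ]; exact ker_stalkMap_sq hu.1 z, ?_⟩
  intro A _ _ I hI α
  let β' : X.presheaf.stalk (h' (i z)) ⟶ CommRingCat.of A :=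
    CommRingCat.ofHom (algebraMap (X.presheaf.stalk (h' (i z))) A)
  let mk' : CommRingCat.of A ⟶ CommRingCat.of (A ⧸ I) := CommRingCat.ofHom (Ideal.Quotient.mk I)
  let α' : Z.presheaf.stalk z ⟶ CommRingCat.of (A ⧸ I) := CommRingCat.ofHom α.toRingHom
  let t : Spec (CommRingCat.of (A ⧸ I)) ⟶ Spec (CommRingCat.of A) := Spec.map (mk')
  have hk : RingHom.ker (Ideal.Quotient.mk I) ^ 2 = ⊥ := by rw [Ideal.mk_ker]; exact hI
  have ht : MoreMor.IsFirstOrderThickening t := by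
    refine ⟨⟨IsClosedImmersion.spec_of_surjective _ Ideal.Quotient.mk_surjective, ⟨?_⟩⟩, FlatMorGeom.ker_SpecMap_sq _ hk⟩
    show Function.Surjective (PrimeSpectrum.comap (Ideal.Quotient.mk I))
    rw [← Set.range_eq_univ, range_comap_of_surjective _ _ Ideal.Quotient.mk_surjective, Ideal.mk_ker,
      PrimeSpectrum.zeroLocus_eq_univ_iff]
    exact fun x hx => ⟨2, Ideal.mem_bot.1 (hI ▸ Ideal.pow_mem_pow hx 2)⟩
  let b : Spec (CommRingCat.of A) ⟶ X :=
    Spec.map (β') ≫ X.fromSpecStalk (h' (i z))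
  let a : Spec (CommRingCat.of (A ⧸ I)) ⟶ Z := Spec.map (α') ≫ Z.fromSpecStalk z
  have hai : a ≫ i = Spec.map (i.stalkMap z ≫ α') ≫ Z'.fromSpecStalk (i z) := by
    rw [Category.assoc, ← Scheme.SpecMap_stalkMap_fromSpecStalk, ← Category.assoc, ← Spec.map_comp]
  have hcomm : h'.stalkMap (i z) ≫ i.stalkMap z ≫ α' =
      β' ≫ mk' := by
    ext r
    show α ((i.stalkMap z).hom ((h'.stalkMap (i z)).hom r)) = algebraMap (X.presheaf.stalk (h' (i z))) (A ⧸ I) r
    rw [← hA, ← hπ]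
    show α (π (algebraMap _ _ r)) = _
    rw [AlgHom.commutes, AlgHom.commutes]
  have w : t ≫ b = a ≫ h := by
    show Spec.map mk' ≫ Spec.map β' ≫ X.fromSpecStalk (h' (i z)) = a ≫ h
    rw [← hu.2.1, ← Category.assoc a, hai, Category.assoc, ← Scheme.SpecMap_stalkMap_fromSpecStalk,
      ← Category.assoc (Spec.map (i.stalkMap z ≫ α')), ← Spec.map_comp, hcomm, Spec.map_comp, Category.assoc]
  obtain ⟨a', ⟨h1, h2⟩, huniq⟩ := hu.2.2 _ _ t b a ht w
  obtain ⟨W, hW', hzW, -⟩ := Opens.isBasis_iff_nbhd.1 Z'.isBasis_affineOpens (U := ⊤) (Opens.mem_top (i z))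
  have hW : IsAffineOpen W := hW'
  have hr : Set.range a' ⊆ Set.range hW.fromSpec := by
    rw [hW.range_fromSpec]
    rintro _ ⟨x, rfl⟩
    obtain ⟨s, rfl⟩ := surjective_mor ht x
    rw [← Scheme.Hom.comp_apply, h1]
    show i (a s) ∈ W
    have hs : Z.fromSpecStalk z (Spec.map (α') s) ∈ {y | y ⤳ z} :=
      Scheme.range_fromSpecStalk.le ⟨_, rfl⟩
    exact (Specializes.map hs i.continuous).mem_open W.2 hzW
  obtain ⟨ψ, hψ⟩ := Spec.map_surjective (IsOpenImmersion.lift hW.fromSpec a' hr)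
  have hψ' : Spec.map ψ ≫ hW.fromSpec = a' := by rw [hψ, IsOpenImmersion.lift_fac]
  have hgerm : Spec.map (Z'.presheaf.germ W (i z) hzW) ≫ hW.fromSpec = Z'.fromSpecStalk (i z) := by
    rw [← hW.fromSpecStalk_eq_fromSpecStalk hzW]; rfl
  have hψ2 : ψ ≫ mk' =
      Z'.presheaf.germ W (i z) hzW ≫ i.stalkMap z ≫ α' := by
    apply Spec.map_injective
    rw [← cancel_mono hW.fromSpec, Spec.map_comp _ (mk'), Category.assoc, hψ']
    show t ≫ a' = _
    rw [h1, hai]
    simp only [Spec.map_comp, Category.assoc, hgerm]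
  letI := TopCat.Presheaf.algebra_section_stalk Z'.presheaf (⟨i z, hzW⟩ : W)
  haveI := hW.isLocalization_stalk ⟨i z, hzW⟩
  have hunit : ∀ g : (hW.primeIdealOf ⟨i z, hzW⟩).asIdeal.primeCompl, IsUnit (ψ.hom g) := fun g => by
    rw [← IsNilpotent.isUnit_quotient_mk_iff (I := I) ⟨2, hI⟩]
    show IsUnit (mk'.hom (ψ.hom g))
    rw [← RingHom.comp_apply, ← CommRingCat.hom_comp, hψ2]
    exact ((IsLocalization.map_units (Z'.presheaf.stalk (i z)) g).map (i.stalkMap z).hom).map α.toRingHom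
  let γ : Z'.presheaf.stalk (i z) →+* A := IsLocalization.lift hunit
  let γc : Z'.presheaf.stalk (i z) ⟶ CommRingCat.of A := CommRingCat.ofHom γ
  have hγ : Z'.presheaf.germ W (i z) hzW ≫ γc = ψ := by
    ext r
    exact IsLocalization.lift_eq hunit r
  have hγa : Spec.map (γc) ≫ Z'.fromSpecStalk (i z) = a' := by
    rw [← hgerm, ← Category.assoc, ← Spec.map_comp, hγ, hψ']
  have hlift : ∀ γ' : Z'.presheaf.stalk (i z) →+* A,
      (Ideal.Quotient.mk I).comp γ' = α.toRingHom.comp (i.stalkMap z).hom →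
      γ'.comp (h'.stalkMap (i z)).hom = algebraMap _ A → γ' = γ := fun γ' e1 e2 => by
    let γc' : Z'.presheaf.stalk (i z) ⟶ CommRingCat.of A := CommRingCat.ofHom γ'
    have : Spec.map (γc') ≫ Z'.fromSpecStalk (i z) = a' := by
      refine huniq _ ⟨?_, ?_⟩
      · rw [hai, ← Category.assoc, ← Spec.map_comp]
        congr 2
        ext1
        exact e1
      · rw [Category.assoc, ← Scheme.SpecMap_stalkMap_fromSpecStalk, ← Category.assoc, ← Spec.map_comp]
        show _ = Spec.map _ ≫ _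
        congr 2
        ext1
        exact e2
    rw [← hγa, cancel_mono] at this
    exact congrArg CommRingCat.Hom.hom (Spec.map_injective this)
  have hγ1 : h'.stalkMap (i z) ≫ γc = β' := by
    apply Spec.map_injective
    rw [← cancel_mono (X.fromSpecStalk (h' (i z))), Spec.map_comp, Category.assoc, Scheme.SpecMap_stalkMap_fromSpecStalk,
      reassoc_of% hγa, h2]
  have hγ2 : γc ≫ mk' = i.stalkMap z ≫ α' := by
    apply Spec.map_injective
    rw [← cancel_mono (Z'.fromSpecStalk (i z)), ← hai, Spec.map_comp, Category.assoc, hγa, h1]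
  refine ⟨⟨γ, fun r => ?_⟩, AlgHom.ext fun x => ?_, fun g hg => AlgHom.ext fun x => RingHom.congr_fun (hlift g.toRingHom ?_ ?_) x⟩
  · rw [hA]
    exact RingHom.congr_fun (congrArg CommRingCat.Hom.hom hγ1) r
  · show Ideal.Quotient.mk I (γ x) = α (π x)
    rw [show π x = (i.stalkMap z).hom x from RingHom.congr_fun hπ x]
    exact RingHom.congr_fun (congrArg CommRingCat.Hom.hom hγ2) x
  · refine RingHom.ext fun x => ?_
    show Ideal.Quotient.mk I (g x) = α ((i.stalkMap z).hom x)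
    rw [← hπ]
    exact AlgHom.congr_fun hg x
  · rw [← hA]
    exact RingHom.ext fun r => g.commutes r

end Groth.Agent.Thick15
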