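import Groth.Prelude.Def_Omega3
import Groth.Agent.Thick15.Stalk

/-! Transported stalk maps, and lifting along stalks of universal thickenings. -/

universe u

open CategoryTheory Limits AlgebraicGeometry TopologicalSpace

namespace Groth.Agent.Thick15

variable {P Q R : Scheme.{u}}

/-- The map of local rings of `f` at `x`, with the image point named. -/
noncomputable def tm (f : P ⟶ Q) {x : P} {y : Q} (h : f x = y) : Q.presheaf.stalk y ⟶ P.presheaf.stalk x :=
  Q.presheaf.stalkSpecializes (h ▸ specializes_rfl) ≫ f.stalkMap x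

theorem tm_self (f : P ⟶ Q) (x : P) : tm f (x := x) rfl = f.stalkMap x := by
  rw [tm, TopCat.Presheaf.stalkSpecializes_refl, Category.id_comp]

theorem germ_tm (f : P ⟶ Q) {x : P} {y : Q} (h : f x = y) (U : Q.Opens) (hy : y ∈ U) (s : Γ(Q, U)) :
    tm f h (Q.presheaf.germ U y hy s) = P.presheaf.germ (f ⁻¹ᵁ U) x (show f x ∈ U from h ▸ hy) (f.app U s) := by
  subst h
  rw [tm_self]
  exact Scheme.Hom.germ_stalkMap_apply f U x hy s

theorem tm_comp (f : P ⟶ Q) (g : Q ⟶ R) {x : P} {y : Q} {z : R} (h : f x = y) (h' : g y = z) :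
    tm g h' ≫ tm f h = tm (f ≫ g) (x := x) (y := z) (show g (f x) = z by rw [h, h']) := by
  subst h; subst h'
  rw [tm_self, tm_self]
  show _ = tm (f ≫ g) (x := x) rfl
  rw [tm_self, Scheme.Hom.stalkMap_comp]

theorem tm_congr {f f' : P ⟶ Q} (e : f = f') {x : P} {y : Q} (h : f x = y) :
    tm f h = tm f' (e ▸ h) := by
  subst e; rfl

theorem tm_comm {Q' : Scheme.{u}} {f : P ⟶ Q} {g : Q ⟶ R} {f' : P ⟶ Q'} {g' : Q' ⟶ R} (e : f ≫ g = f' ≫ g')
    {x : P} {y : Q} {y' : Q'} {z : R} (h₁ : f x = y) (h₂ : g y = z) (h₁' : f' x = y') (h₂' : g' y' = z) :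
    tm g h₂ ≫ tm f h₁ = tm g' h₂' ≫ tm f' h₁' := by
  rw [tm_comp, tm_comp]
  exact tm_congr e _

theorem tm_factor {f : P ⟶ Q} {g : Q ⟶ R} {k : P ⟶ R} (e : f ≫ g = k) {x : P} {y : Q} {z : R} (h₁ : f x = y) (h₂ : g y = z)
    (h : k x = z) : tm g h₂ ≫ tm f h₁ = tm k h := by
  rw [tm_comp]
  exact tm_congr e _

theorem existsUnique_lift_stalk {Z Z' X : Scheme.{u}} {h : Z ⟶ X} {i : Z ⟶ Z'} {h' : Z' ⟶ X}
    (hu : OmegaSh.IsUnivThickening h i h') (z : Z) {y : Z'} (hy : i z = y) {x : X} (hx : h' y = x)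
    {A B : Type u} [CommRing A] [CommRing B] (π : A →+* B) (hπ : Function.Surjective π)
    (hker : RingHom.ker π ^ 2 = ⊥) (β : X.presheaf.stalk x →+* A) (α : Z.presheaf.stalk z →+* B)
    (w : π.comp β = α.comp ((tm i hy).hom.comp (tm h' hx).hom)) :
    ∃! l : Z'.presheaf.stalk y →+* A, π.comp l = α.comp (tm i hy).hom ∧ l.comp (tm h' hx).hom = β := by
  subst hy; subst hx
  simp only [tm_self] at w ⊢
  letI := (h'.stalkMap (i z)).hom.toAlgebra
  letI := (i.stalkMap z).hom.toAlgebra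
  letI : Algebra (X.presheaf.stalk (h' (i z))) (Z.presheaf.stalk z) := (h'.stalkMap (i z) ≫ i.stalkMap z).hom.toAlgebra
  haveI : IsScalarTower (X.presheaf.stalk (h' (i z))) (Z'.presheaf.stalk (i z)) (Z.presheaf.stalk z) :=
    .of_algebraMap_eq fun _ => rfl
  exact existsUnique_lift_ring (isUnivThickeningRing_stalk hu z
    (IsScalarTower.toAlgHom (X.presheaf.stalk (h' (i z))) (Z'.presheaf.stalk (i z)) (Z.presheaf.stalk z)) rfl rfl)
    π hπ hker β α w

/-- The ring statement behind right exactness of the conormal sequence of two universal thickenings. -/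
theorem surjective_and_ker_of_lift {R B' B C' C C'' : Type u} [CommRing R] [CommRing B'] [CommRing B] [CommRing C']
    [CommRing C] [CommRing C''] (pB : B' →+* B) (hpB : Function.Surjective pB) (rB : R →+* B') (m : B' →+* C')
    (rC : R →+* C') (hr : rC = m.comp rB) (pC' : C' →+* C) (hpC' : Function.Surjective pC') (hkC' : RingHom.ker pC' ^ 2 = ⊥)
    (eC : B →+* C'') (pC'' : C'' →+* C) (hpC'' : Function.Surjective pC'') (hkC'' : RingHom.ker pC'' ^ 2 = ⊥)
    (n : C' →+* C'') (h1 : pC''.comp n = pC') (h2 : n.comp m = eC.comp pB)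
    (u' : ∀ (A D : Type u) [CommRing A] [CommRing D] (π : A →+* D), Function.Surjective π → RingHom.ker π ^ 2 = ⊥ →
      ∀ (β : R →+* A) (α : C →+* D), π.comp β = α.comp (pC'.comp rC) →
        ∃! l : C' →+* A, π.comp l = α.comp pC' ∧ l.comp rC = β)
    (u'' : ∀ (A D : Type u) [CommRing A] [CommRing D] (π : A →+* D), Function.Surjective π → RingHom.ker π ^ 2 = ⊥ →
      ∀ (β : B →+* A) (α : C →+* D), π.comp β = α.comp (pC''.comp eC) →
        ∃! l : C'' →+* A, π.comp l = α.comp pC'' ∧ l.comp eC = β) :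
    Function.Surjective n ∧ RingHom.ker n = (RingHom.ker pB).map m := by
  let K : Ideal C' := (RingHom.ker pB).map m
  have hKn : K ≤ RingHom.ker n := Ideal.map_le_iff_le_comap.2 fun b hb => by
    show n (m b) = 0
    rw [← RingHom.comp_apply, h2, RingHom.comp_apply, RingHom.mem_ker.1 hb, map_zero]
  have hKp : ∀ a ∈ K, pC' a = 0 := fun a ha => by rw [← h1, RingHom.comp_apply, RingHom.mem_ker.1 (hKn ha), map_zero]
  let Q := C' ⧸ K
  let v : Q →+* C'' := Ideal.Quotient.lift K n fun a ha => RingHom.mem_ker.1 (hKn ha)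
  let πQ : Q →+* C := Ideal.Quotient.lift K pC' hKp
  have hπQ : Function.Surjective πQ := Ideal.Quotient.lift_surjective_of_surjective K hKp hpC'
  have hkQ : RingHom.ker πQ ^ 2 = ⊥ := by
    rw [pow_two, ← le_bot_iff, Ideal.mul_le]
    intro a ha b hb
    obtain ⟨a, rfl⟩ := Ideal.Quotient.mk_surjective a
    obtain ⟨b, rfl⟩ := Ideal.Quotient.mk_surjective b
    have : a * b ∈ RingHom.ker pC' ^ 2 := pow_two (RingHom.ker pC') ▸ Ideal.mul_mem_mul
      (show a ∈ RingHom.ker pC' from ha) (show b ∈ RingHom.ker pC' from hb)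
    rw [hkC', Ideal.mem_bot] at this
    rw [Ideal.mem_bot, ← map_mul, this, map_zero]
  have hm0 : ∀ b ∈ RingHom.ker pB, ((Ideal.Quotient.mk K).comp m) b = 0 := fun b hb =>
    Ideal.Quotient.eq_zero_iff_mem.2 (Ideal.mem_map_of_mem _ hb)
  let βB : B →+* Q := (RingHom.liftOfSurjective pB hpB) ⟨(Ideal.Quotient.mk K).comp m, hm0⟩
  have hβB : βB.comp pB = (Ideal.Quotient.mk K).comp m := RingHom.liftOfSurjective_comp pB hpB _
  have hvβ : v.comp βB = eC := RingHom.ext fun b => by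
    obtain ⟨b, rfl⟩ := hpB b
    show v ((βB.comp pB) b) = eC (pB b)
    rw [hβB]
    exact RingHom.congr_fun h2 b
  have hπβ : πQ.comp βB = pC''.comp eC := by
    rw [← hvβ]
    refine RingHom.ext fun b => ?_
    show πQ (βB b) = pC'' (v (βB b))
    obtain ⟨q, hq⟩ := Ideal.Quotient.mk_surjective (βB b)
    rw [← hq]
    exact (RingHom.congr_fun h1 q).symm
  obtain ⟨w, ⟨hw1, hw2⟩, -⟩ := u'' Q C πQ hπQ hkQ βB (RingHom.id C) (by rw [hπβ]; rfl)
  rw [RingHom.id_comp] at hw1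
  have hwn : w.comp n = Ideal.Quotient.mk K := by
    refine (u' Q C πQ hπQ hkQ ((Ideal.Quotient.mk K).comp rC) (RingHom.id C) rfl).unique ⟨?_, ?_⟩ ⟨rfl, rfl⟩
    · rw [RingHom.id_comp, ← RingHom.comp_assoc, hw1, h1]
    · rw [hr, RingHom.comp_assoc, ← RingHom.comp_assoc rB m n, h2, RingHom.comp_assoc, ← RingHom.comp_assoc _ eC w,
        hw2, ← RingHom.comp_assoc, hβB, RingHom.comp_assoc]
  have hvw : v.comp w = RingHom.id C'' := by
    refine (u'' C'' C pC'' hpC'' hkC'' eC (RingHom.id C) rfl).unique ⟨?_, ?_⟩ ⟨rfl, rfl⟩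
    · refine RingHom.ext fun c => ?_
      obtain ⟨q, hq⟩ := Ideal.Quotient.mk_surjective (w c)
      show pC'' (v (w c)) = pC'' c
      rw [← hq, ← RingHom.congr_fun hw1 c, RingHom.comp_apply, ← hq]
      exact RingHom.congr_fun h1 q
    · rw [RingHom.comp_assoc, hw2, hvβ]
  refine ⟨fun c => ?_, le_antisymm (fun a ha => ?_) hKn⟩
  · obtain ⟨q, hq⟩ := Ideal.Quotient.mk_surjective (w c)
    refine ⟨q, ?_⟩
    rw [← RingHom.id_apply c, ← hvw]
    show _ = v (w c)
    rw [← hq]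
    rfl
  · rw [← Ideal.Quotient.eq_zero_iff_mem, ← hwn, RingHom.comp_apply, RingHom.mem_ker.1 ha, map_zero]

end Groth.Agent.Thick15
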