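import Groth.Prelude.Def_Omega3
import Mathlib.RingTheory.Kaehler.Polynomial
import Mathlib.RingTheory.Unramified.Basic
import Mathlib.Algebra.Module.Torsion.Basic
import Mathlib.RingTheory.Ideal.Quotient.Operations

/-! Existence of the universal first order thickening of a formally unramified algebra. -/

set_option autoImplicit false
set_option linter.unusedSectionVars false
set_option linter.style.haveILetI false

noncomputable section

namespace Groth.Agent.Thick15

universe u

variable {R : Type u} [CommRing R]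

theorem span_eq_top_of_unramified {P : Type u} [CommRing P] [Algebra R P] (J : Ideal P)
    [Algebra.FormallyUnramified R (P ⧸ J)] :
    Submodule.span P (KaehlerDifferential.D R P '' (J : Set P)) ⊔ J • (⊤ : Submodule P Ω[P⁄R]) = ⊤ := by
  set N : Submodule P Ω[P⁄R] := Submodule.span P (KaehlerDifferential.D R P '' (J : Set P)) ⊔ J • ⊤ with hN
  have htors : Module.IsTorsionBySet P (Ω[P⁄R] ⧸ N) J := by
    intro z r
    obtain ⟨w, rfl⟩ := Submodule.Quotient.mk_surjective N z
    rw [← Submodule.Quotient.mk_smul, Submodule.Quotient.mk_eq_zero]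
    exact Submodule.mem_sup_right (Submodule.smul_mem_smul r.2 Submodule.mem_top)
  letI : Module (P ⧸ J) (Ω[P⁄R] ⧸ N) := htors.module
  haveI : IsScalarTower P (P ⧸ J) (Ω[P⁄R] ⧸ N) := htors.isScalarTower
  haveI : IsScalarTower R (P ⧸ J) (Ω[P⁄R] ⧸ N) := IsScalarTower.of_algebraMap_smul fun r z => by
    rw [IsScalarTower.algebraMap_apply R P (P ⧸ J), algebraMap_smul, algebraMap_smul]
  let δ : P →ₗ[R] Ω[P⁄R] ⧸ N := (N.mkQ.restrictScalars R) ∘ₗ (KaehlerDifferential.D R P).toLinearMap
  have hker : Submodule.restrictScalars R (J : Submodule P P) ≤ LinearMap.ker δ := fun x hx => by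
    rw [LinearMap.mem_ker]
    exact (Submodule.Quotient.mk_eq_zero N).2 (Submodule.mem_sup_left (Submodule.subset_span ⟨x, hx, rfl⟩))
  let δ' : P ⧸ J →ₗ[R] Ω[P⁄R] ⧸ N := ((Submodule.restrictScalars R (J : Submodule P P)).liftQ δ hker).comp
    (Submodule.Quotient.restrictScalarsEquiv R (J : Submodule P P)).symm.toLinearMap
  let Δ : Derivation R (P ⧸ J) (Ω[P⁄R] ⧸ N) :=
    Derivation.mk' δ' fun a b => by
      obtain ⟨a, rfl⟩ := Ideal.Quotient.mk_surjective a
      obtain ⟨b, rfl⟩ := Ideal.Quotient.mk_surjective b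
      show Submodule.Quotient.mk (KaehlerDifferential.D R P (a * b)) =
        Ideal.Quotient.mk J a • (Submodule.Quotient.mk (KaehlerDifferential.D R P b) : Ω[P⁄R] ⧸ N) +
          Ideal.Quotient.mk J b • (Submodule.Quotient.mk (KaehlerDifferential.D R P a) : Ω[P⁄R] ⧸ N)
      rw [Derivation.leibniz, Submodule.Quotient.mk_add, Submodule.Quotient.mk_smul, Submodule.Quotient.mk_smul]
      rfl
  refine eq_top_iff.2 ((KaehlerDifferential.span_range_derivation R P).ge.trans (Submodule.span_le.2 ?_))
  rintro _ ⟨x, rfl⟩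
  rw [SetLike.mem_coe, ← Submodule.Quotient.mk_eq_zero N]
  show Δ (Ideal.Quotient.mk J x) = 0
  rw [← Derivation.liftKaehlerDifferential_comp_D Δ, Subsingleton.elim (KaehlerDifferential.D R (P ⧸ J) _) 0, map_zero]

theorem exists_universal (P : Type u) [CommRing P] [Algebra R P] {σ : Type u} (x : σ → P)
    (hx : Algebra.adjoin R (Set.range x) = ⊤)
    (mkDer : ∀ (M : Type u) [AddCommGroup M] [Module R M] [Module P M] [IsScalarTower R P M] (v : σ → M),
      ∃ D : Derivation R P M, ∀ i, D (x i) = v i)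
    (lift : ∀ (A : Type u) [CommRing A] [Algebra R A] (v : σ → A), ∃ φ : P →ₐ[R] A, ∀ i, φ (x i) = v i)
    {S : Type u} [CommRing S] [Algebra R S] [Algebra.FormallyUnramified R S] (π : P →ₐ[R] S) (hπ : Function.Surjective π) :
    ∃ (S' : Type u) (_ : CommRing S') (_ : Algebra R S') (q : S' →ₐ[R] S),
      OmegaSh.IsUnivThickeningRing R S S' q := by
  classical
  set J : Ideal P := RingHom.ker π.toRingHom with hJ
  let e : (P ⧸ J) ≃ₐ[R] S := Ideal.quotientKerAlgEquivOfSurjective hπ
  haveI : Algebra.FormallyUnramified R (P ⧸ J) := Algebra.FormallyUnramified.of_equiv e.symm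
  have hf : ∀ i, ∃ f ∈ J, KaehlerDifferential.D R P (x i) - KaehlerDifferential.D R P f ∈
      J • (⊤ : Submodule P Ω[P⁄R]) := by
    intro i
    have hmem : KaehlerDifferential.D R P (x i) ∈ Submodule.span P (KaehlerDifferential.D R P '' (J : Set P)) ⊔
        J • (⊤ : Submodule P Ω[P⁄R]) := by rw [span_eq_top_of_unramified J]; trivial
    obtain ⟨a, ha, b, hb, hab⟩ := Submodule.mem_sup.1 hmem
    have hspan : ∀ a ∈ Submodule.span P (KaehlerDifferential.D R P '' (J : Set P)), ∃ f ∈ J,
        a - KaehlerDifferential.D R P f ∈ J • (⊤ : Submodule P Ω[P⁄R]) := by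
      intro a ha
      induction ha using Submodule.span_induction with
      | mem y hy => obtain ⟨f, hf, rfl⟩ := hy; exact ⟨f, hf, by rw [sub_self]; exact zero_mem _⟩
      | zero => exact ⟨0, J.zero_mem, by rw [map_zero, sub_zero]; exact zero_mem _⟩
      | add y z _ _ hy hz =>
        obtain ⟨f, hf, hy⟩ := hy
        obtain ⟨g, hg, hz⟩ := hz
        refine ⟨f + g, J.add_mem hf hg, ?_⟩
        rw [map_add, add_sub_add_comm]
        exact add_mem hy hz
      | smul c y _ hy =>
        obtain ⟨f, hf, hy⟩ := hy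
        refine ⟨c * f, J.mul_mem_left c hf, ?_⟩
        rw [Derivation.leibniz, ← sub_sub, ← smul_sub]
        exact sub_mem (Submodule.smul_mem _ c hy) (Submodule.smul_mem_smul hf Submodule.mem_top)
    obtain ⟨f, hfJ, hfa⟩ := hspan a ha
    exact ⟨f, hfJ, by rw [← hab, add_sub_right_comm]; exact add_mem hfa hb⟩
  choose f hfJ hfd using hf
  let K : Ideal P := J ^ 2 ⊔ Ideal.span (Set.range f)
  have hKJ : K ≤ J := sup_le (Ideal.pow_le_self two_ne_zero) (Ideal.span_le.2 (by rintro _ ⟨i, rfl⟩; exact hfJ i))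
  let q : P ⧸ K →ₐ[R] S := Ideal.Quotient.liftₐ K π fun y hy => hKJ hy
  have hq : ∀ y, q (Ideal.Quotient.mk K y) = π y := fun y => rfl
  refine ⟨P ⧸ K, inferInstance, inferInstance, q, fun s => ?_, ?_, fun A _ _ I hI a => ?_⟩
  · obtain ⟨y, rfl⟩ := hπ s
    exact ⟨Ideal.Quotient.mk K y, rfl⟩
  · have hk : RingHom.ker q.toRingHom = J.map (Ideal.Quotient.mk K) := by
      refine le_antisymm (fun z hz => ?_) (Ideal.map_le_iff_le_comap.2 fun y hy => hy)
      obtain ⟨y, rfl⟩ := Ideal.Quotient.mk_surjective z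
      exact Ideal.mem_map_of_mem _ hz
    rw [hk, ← Ideal.map_pow, Ideal.map_eq_bot_iff_le_ker, Ideal.mk_ker]
    exact le_sup_left
  -- universality
  choose v hv using fun i => Ideal.Quotient.mk_surjective (a (π (x i)))
  obtain ⟨φ, hφ⟩ := lift A v
  have hφπ : (Ideal.Quotient.mkₐ R I).comp φ = a.comp π :=
    AlgHom.ext_of_adjoin_eq_top hx fun y hy => by
      obtain ⟨i, rfl⟩ := hy
      show Ideal.Quotient.mk I (φ (x i)) = a (π (x i))
      rw [hφ, hv]
  have hφJ : ∀ y ∈ J, φ y ∈ I := fun y hy => by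
    rw [← Ideal.Quotient.eq_zero_iff_mem]
    exact (DFunLike.congr_fun hφπ y).trans (by rw [AlgHom.comp_apply, show π y = 0 from hy, map_zero])
  have hII : ∀ y ∈ I, ∀ z ∈ I, y * z = 0 := fun y hy z hz => by
    have := Ideal.mul_mem_mul hy hz
    rwa [← pow_two, hI, Ideal.mem_bot] at this
  letI : Module P I := Module.compHom _ φ.toRingHom
  haveI : IsScalarTower R P I := IsScalarTower.of_algebraMap_smul fun r z => Subtype.ext (by
    show φ (algebraMap R P r) * (z : A) = r • (z : A)
    rw [AlgHom.commutes, Algebra.smul_def])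
  have hsmul : ∀ (y : P) (z : I), ((y • z : I) : A) = φ y * z := fun y z => rfl
  have hkey : ∀ (D : Derivation R P I) (i : σ), D (f i) = D (x i) := fun D i => by
    have hle : J • (⊤ : Submodule P Ω[P⁄R]) ≤ LinearMap.ker D.liftKaehlerDifferential := by
      refine Submodule.smul_le.2 fun r hr z _ => ?_
      rw [LinearMap.mem_ker, map_smul]
      exact Subtype.ext ((hsmul _ _).trans (hII _ (hφJ r hr) _ (D.liftKaehlerDifferential z).2))
    have h0 := LinearMap.mem_ker.1 (hle (hfd i))
    rw [map_sub, Derivation.liftKaehlerDifferential_comp_D, Derivation.liftKaehlerDifferential_comp_D, sub_eq_zero] at h0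
    exact h0.symm
  obtain ⟨D, hD⟩ := mkDer I (fun i => -⟨φ (f i), hφJ _ (hfJ i)⟩)
  let ψ : P →ₐ[R] A :=
    { toFun := fun y => φ y + (D y : A)
      map_one' := by rw [map_one, Derivation.map_one_eq_zero, ZeroMemClass.coe_zero, add_zero]
      map_mul' := fun y z => by
        rw [Derivation.leibniz, Submodule.coe_add, hsmul, hsmul, map_mul]
        linear_combination -hII _ (D y).2 _ (D z).2
      map_zero' := by rw [map_zero, map_zero, ZeroMemClass.coe_zero, add_zero]
      map_add' := fun y z => by rw [map_add, map_add, Submodule.coe_add]; abel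
      commutes' := fun r => by rw [AlgHom.commutes, Derivation.map_algebraMap, ZeroMemClass.coe_zero, add_zero] }
  have hψI : ∀ y, Ideal.Quotient.mk I (ψ y) = a (π y) := fun y => by
    show Ideal.Quotient.mk I (φ y + (D y : A)) = _
    rw [map_add, Ideal.Quotient.eq_zero_iff_mem.2 (D y).2, add_zero]
    exact DFunLike.congr_fun hφπ y
  have hψK : ∀ y ∈ K, ψ y = 0 := by
    have : K ≤ RingHom.ker ψ.toRingHom := by
      refine sup_le ?_ (Ideal.span_le.2 ?_)
      · rw [pow_two, Ideal.mul_le]
        intro y hy z hz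
        rw [RingHom.mem_ker]
        show ψ (y * z) = 0
        rw [map_mul]
        refine hII _ ?_ _ ?_ <;> rw [← Ideal.Quotient.eq_zero_iff_mem, hψI]
        · rw [show π y = 0 from hy, map_zero]
        · rw [show π z = 0 from hz, map_zero]
      · rintro _ ⟨i, rfl⟩
        show φ (f i) + (D (f i) : A) = 0
        rw [hkey, hD]
        simp
    exact fun y hy => this hy
  refine ⟨Ideal.Quotient.liftₐ K ψ hψK, AlgHom.ext fun z => ?_, fun g hg => ?_⟩
  · obtain ⟨y, rfl⟩ := Ideal.Quotient.mk_surjective z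
    exact hψI y
  · have hgI : ∀ y, Ideal.Quotient.mk I (g (Ideal.Quotient.mk K y)) = a (π y) := fun y => DFunLike.congr_fun hg _
    let d : P → I := fun y => ⟨g (Ideal.Quotient.mk K y) - φ y, by
      rw [← Ideal.Quotient.eq_zero_iff_mem, map_sub, hgI]
      exact sub_eq_zero.2 (DFunLike.congr_fun hφπ y).symm⟩
    let dl : P →ₗ[R] I :=
      { toFun := d
        map_add' := fun y z => Subtype.ext (by simp only [d, map_add, Submodule.coe_add]; abel)
        map_smul' := fun r y => Subtype.ext (by
          show g (Ideal.Quotient.mk K (r • y)) - φ (r • y) = r • (g (Ideal.Quotient.mk K y) - φ y)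
          rw [show Ideal.Quotient.mk K (r • y) = r • Ideal.Quotient.mk K y from map_smul (Ideal.Quotient.mkₐ R K) r y,
            map_smul, map_smul, smul_sub]) }
    let D' : Derivation R P I := Derivation.mk' dl fun y z => Subtype.ext (by
      rw [Submodule.coe_add, hsmul, hsmul]
      show g (Ideal.Quotient.mk K (y * z)) - φ (y * z) =
        φ y * (g (Ideal.Quotient.mk K z) - φ z) + φ z * (g (Ideal.Quotient.mk K y) - φ y)
      rw [map_mul (Ideal.Quotient.mk K), map_mul g, map_mul φ]
      linear_combination hII _ (d y).2 _ (d z).2)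
    refine AlgHom.coe_ringHom_injective (Ideal.Quotient.ringHom_ext ?_)
    refine congrArg AlgHom.toRingHom (AlgHom.ext_of_adjoin_eq_top (φ₁ := g.comp (Ideal.Quotient.mkₐ R K)) (φ₂ := ψ) hx ?_)
    rintro _ ⟨i, rfl⟩
    have h0 : g (Ideal.Quotient.mk K (f i)) = 0 := by
      have hfK : f i ∈ K := Ideal.mem_sup_right (Ideal.subset_span ⟨i, rfl⟩)
      rw [Ideal.Quotient.eq_zero_iff_mem.2 hfK, map_zero]
    have h1 := congrArg Subtype.val (hkey D' i)
    change g (Ideal.Quotient.mk K (f i)) - φ (f i) = g (Ideal.Quotient.mk K (x i)) - φ (x i) at h1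
    show g (Ideal.Quotient.mk K (x i)) = φ (x i) + (D (x i) : A)
    rw [hD, Submodule.coe_neg]
    linear_combination -h1 + h0


/-- Every formally unramified algebra has a universal first order thickening. -/
theorem exists_univThickening (R S : Type u) [CommRing R] [CommRing S] [Algebra R S] [Algebra.FormallyUnramified R S] :
    ∃ (S' : Type u) (_ : CommRing S') (_ : Algebra R S') (q : S' →ₐ[R] S),
      OmegaSh.IsUnivThickeningRing R S S' q :=
  exists_universal (MvPolynomial S R) (σ := S) (fun s => MvPolynomial.X s) MvPolynomial.adjoin_range_X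
    (fun M _ _ _ _ v => ⟨MvPolynomial.mkDerivation R v, fun i => MvPolynomial.mkDerivation_X R v i⟩)
    (fun A _ _ v => ⟨MvPolynomial.aeval v, fun i => MvPolynomial.aeval_X v i⟩)
    (MvPolynomial.aeval (R := R) (id : S → S)) (fun s => ⟨MvPolynomial.X s, MvPolynomial.aeval_X _ s⟩)

end Groth.Agent.Thick15
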