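import Groth.Prelude.Def_Omega3
import Groth.Agent.Thick15.Affine
import Groth.Agent.Thick15.Exists

/-! Existence of universal first order thickenings of formally unramified morphisms. -/

universe u

open CategoryTheory Limits AlgebraicGeometry TopologicalSpace

namespace Groth.Agent.Thick15

theorem exists_chart {Z X : Scheme.{u}} (h : Z ⟶ X) [FormallyUnramified h] (V : Z.Opens) (hV : IsAffineOpen V)
    (U : X.Opens) (hU : IsAffineOpen U) (e : V ≤ h ⁻¹ᵁ U) :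
    ∃ (Z' : Scheme.{u}) (i : V.toScheme ⟶ Z') (h' : Z' ⟶ X), OmegaSh.IsUnivThickening (V.ι ≫ h) i h' := by
  have hfu := h.formallyUnramified_appLE hU hV e
  algebraize [(h.appLE U V e).hom]
  obtain ⟨S', _, _, q, hq⟩ := exists_univThickening Γ(X, U) Γ(Z, V)
  have hs := isUnivThickening_precomp_iso (isUnivThickening_postcomp (isUnivThickening_spec hq) hU.fromSpec) hV.isoSpec.hom
  have he : hV.isoSpec.hom ≫ Spec.map (CommRingCat.ofHom (algebraMap Γ(X, U) Γ(Z, V))) ≫ hU.fromSpec = V.ι ≫ h := by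
    rw [show CommRingCat.ofHom (algebraMap Γ(X, U) Γ(Z, V)) = h.appLE U V e from rfl,
      IsAffineOpen.SpecMap_appLE_fromSpec h hU hV e, IsAffineOpen.isoSpec_hom_fromSpec_assoc]
  rw [he] at hs
  exact ⟨_, _, _, hs⟩

/-- Inclusions of universal thickenings of smaller opens are open immersions, cartesian over the inclusions. -/
theorem exists_incl {Z X W' V' : Scheme.{u}} {h : Z ⟶ X} {V W : Z.Opens} (hle : V ≤ W) {iV : V.toScheme ⟶ V'}
    {hV' : V' ⟶ X} (hV : OmegaSh.IsUnivThickening (V.ι ≫ h) iV hV') {iW : W.toScheme ⟶ W'} {hW' : W' ⟶ X}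
    (hW : OmegaSh.IsUnivThickening (W.ι ≫ h) iW hW') :
    ∃ m : V' ⟶ W', (iV ≫ m = Z.homOfLE hle ≫ iW ∧ m ≫ hW' = hV') ∧ IsOpenImmersion m ∧
      ∀ m' : V' ⟶ W', iV ≫ m' = Z.homOfLE hle ≫ iW → m' ≫ hW' = hV' → m' = m := by
  haveI := hW.1.1.1
  obtain ⟨O, hO, hOe⟩ := iW.isClosedEmbedding.isInducing.isOpen_iff.1 (W.ι ⁻¹ᵁ V).2
  let O' : W'.Opens := ⟨O, hO⟩
  have hO' : iW ⁻¹ᵁ O' = W.ι ⁻¹ᵁ V := Opens.ext hOe
  have sq := isPullback_resLE_of_eq iW hO'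
  have hr : Set.range (W.ι ⁻¹ᵁ V).ι = Set.range (Z.homOfLE hle) := by
    rw [Scheme.Opens.range_ι, ← Scheme.Hom.coe_opensRange, Scheme.opensRange_homOfLE]
  let e₀ := IsOpenImmersion.isoOfRangeEq (Z.homOfLE hle) (W.ι ⁻¹ᵁ V).ι hr.symm
  have he₀ : e₀.hom ≫ (W.ι ⁻¹ᵁ V).ι = Z.homOfLE hle := IsOpenImmersion.isoOfRangeEq_hom_fac _ _ _
  have hres := isUnivThickening_precomp_iso (isUnivThickening_of_isPullback hW sq) e₀.hom
  rw [reassoc_of% he₀, Scheme.homOfLE_ι_assoc] at hres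
  obtain ⟨φ, φ1, φ2⟩ := exists_iso hV hres
  obtain ⟨m, hm, hu⟩ := hW.2.2 _ _ iV hV' (Z.homOfLE hle) hV.1 (by rw [hV.2.1, Scheme.homOfLE_ι_assoc])
  refine ⟨m, hm, ?_, fun m' a b => hu m' ⟨a, b⟩⟩
  rw [← hu (φ.hom ≫ O'.ι) ⟨?_, ?_⟩]
  · infer_instance
  · rw [reassoc_of% φ1, Scheme.Hom.resLE_comp_ι, reassoc_of% he₀]
  · rw [Category.assoc, φ2]

theorem exists_univThickening_scheme {Z X : Scheme.{u}} (h : Z ⟶ X) [FormallyUnramified h] :
    ∃ (Z' : Scheme.{u}) (i : Z ⟶ Z') (h' : Z' ⟶ X), OmegaSh.IsUnivThickening h i h' := by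
  let J := {V : Z.affineOpens // ∃ U : X.affineOpens, V.1 ≤ h ⁻¹ᵁ U.1}
  have hch : ∀ V : J, ∃ (Z' : Scheme.{u}) (i : V.1.1.toScheme ⟶ Z') (h' : Z' ⟶ X),
      OmegaSh.IsUnivThickening (V.1.1.ι ≫ h) i h' := fun V => by
    obtain ⟨U, hU⟩ := V.2
    exact exists_chart h V.1.1 V.1.2 U.1 U.2 hU
  choose Z' iZ hZ hu using hch
  choose m hm hmo hmu using fun (V W : J) (hle : V ≤ W) => exists_incl (h := h) (V := V.1.1) (W := W.1.1) hle (hu V) (hu W)
  have hbasis : ∀ (O : Z.Opens) (z : Z), z ∈ O → ∃ V : J, z ∈ V.1.1 ∧ V.1.1 ≤ O := fun O z hz => by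
    obtain ⟨U, hU, hzU, -⟩ := Opens.isBasis_iff_nbhd.1 X.isBasis_affineOpens (U := ⊤) (Opens.mem_top (h z))
    obtain ⟨V, hV, hzV, hVle⟩ := Opens.isBasis_iff_nbhd.1 Z.isBasis_affineOpens (U := O ⊓ h ⁻¹ᵁ U) ⟨hz, hzU⟩
    exact ⟨⟨⟨V, hV⟩, ⟨U, hU⟩, hVle.trans inf_le_right⟩, hzV, hVle.trans inf_le_left⟩
  let F : J ⥤ Scheme.{u} :=
    { obj := Z'
      map := fun {V W} f => m V W (leOfHom f)
      map_id := fun V => (hmu V V le_rfl (𝟙 _) (by simp) (by simp)).symm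
      map_comp := fun {V W Q} f g => (hmu V Q _ _
        (by rw [reassoc_of% (hm V W (leOfHom f)).1, (hm W Q (leOfHom g)).1, Scheme.homOfLE_homOfLE_assoc])
        (by rw [Category.assoc, (hm W Q (leOfHom g)).2, (hm V W (leOfHom f)).2])).symm }
  haveI : ∀ {i j : J} (f : i ⟶ j), IsOpenImmersion (F.map f) := fun {i j} f => hmo i j _
  have hsurj : ∀ V : J, Function.Surjective (iZ V) := fun V => surjective_mor (hu V).1
  have hinj : ∀ V : J, Function.Injective (iZ V) := fun V => by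
    haveI := (hu V).1.1.1
    exact (iZ V).isClosedEmbedding.injective
  have happ : ∀ (V W : J) (hle : V ≤ W) (v : V.1.1.toScheme),
      F.map (homOfLE hle) (iZ V v) = iZ W (Z.homOfLE hle v) := fun V W hle v => by
    show m V W _ (iZ V v) = _
    rw [← Scheme.Hom.comp_apply, (hm V W hle).1]
    rfl
  haveI : (F ⋙ Scheme.forget).IsLocallyDirected := ⟨fun {V W Q} fV fW xV xW hxe => by
    obtain ⟨v, rfl⟩ := hsurj V xV
    obtain ⟨w, rfl⟩ := hsurj W xW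
    have e : F.map fV (iZ V v) = F.map fW (iZ W w) := hxe
    rw [Subsingleton.elim fV (homOfLE (leOfHom fV)), Subsingleton.elim fW (homOfLE (leOfHom fW)), happ, happ] at e
    have e' : v.1 = w.1 := by simpa [Scheme.homOfLE_apply] using congrArg Subtype.val (hinj Q e)
    obtain ⟨P, hzP, hPle⟩ := hbasis (V.1.1 ⊓ W.1.1) v.1 ⟨v.2, e' ▸ w.2⟩
    refine ⟨P, homOfLE (hPle.trans inf_le_left), homOfLE (hPle.trans inf_le_right), iZ P ⟨v.1, hzP⟩, ?_, ?_⟩
    · exact (happ P V _ _).trans (congrArg (iZ V) (Subtype.ext (Scheme.homOfLE_apply _ _)))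
    · exact (happ P W _ _).trans (congrArg (iZ W) (Subtype.ext ((Scheme.homOfLE_apply _ _).trans e')))⟩
  have hcov : ⨆ V : J, V.1.1 = ⊤ := top_le_iff.1 fun z _ => by
    obtain ⟨V, hzV, -⟩ := hbasis ⊤ z trivial
    exact Opens.mem_iSup.2 ⟨V, hzV⟩
  let 𝒰 : Z.OpenCover := Z.openCoverOfIsOpenCover (fun V : J => V.1.1) hcov
  let x : ∀ V : J, V.1.1.toScheme ⟶ colimit F := fun V => iZ V ≫ colimit.ι F V
  have hx : ∀ (V W : J) (hle : V ≤ W), Z.homOfLE hle ≫ x W = x V := fun V W hle => by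
    show Z.homOfLE hle ≫ iZ W ≫ colimit.ι F W = iZ V ≫ colimit.ι F V
    rw [← reassoc_of% (hm V W hle).1]
    exact congrArg (iZ V ≫ ·) (colimit.w F (homOfLE hle))
  have hcompat : ∀ V W : J, pullback.fst V.1.1.ι W.1.1.ι ≫ x V = pullback.snd V.1.1.ι W.1.1.ι ≫ x W := fun V W => by
    let K := {P : J // P ≤ V ∧ P ≤ W}
    let jm : ∀ P : K, P.1.1.1.toScheme ⟶ pullback V.1.1.ι W.1.1.ι := fun P =>
      pullback.lift (Z.homOfLE P.2.1) (Z.homOfLE P.2.2) (by simp)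
    have hjo : ∀ P, IsOpenImmersion (jm P) := fun P => by
      haveI : IsOpenImmersion (jm P ≫ pullback.fst V.1.1.ι W.1.1.ι) := by
        show IsOpenImmersion (pullback.lift _ _ _ ≫ pullback.fst _ _)
        rw [pullback.lift_fst]
        infer_instance
      exact IsOpenImmersion.of_comp _ (pullback.fst V.1.1.ι W.1.1.ι)
    let 𝒱 : (pullback V.1.1.ι W.1.1.ι).OpenCover := Scheme.Cover.mkOfCovers K _ jm (fun p => by
      let q := (pullback.fst V.1.1.ι W.1.1.ι ≫ V.1.1.ι) p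
      have hq1 : q ∈ V.1.1 := (pullback.fst V.1.1.ι W.1.1.ι p).2
      have hq2 : q ∈ W.1.1 := by
        show (pullback.fst V.1.1.ι W.1.1.ι ≫ V.1.1.ι) p ∈ W.1.1
        rw [pullback.condition]
        exact (pullback.snd V.1.1.ι W.1.1.ι p).2
      obtain ⟨P, hqP, hPle⟩ := hbasis (V.1.1 ⊓ W.1.1) q ⟨hq1, hq2⟩
      refine ⟨⟨P, hPle.trans inf_le_left, hPle.trans inf_le_right⟩, ⟨q, hqP⟩,
        (pullback.fst V.1.1.ι W.1.1.ι ≫ V.1.1.ι).isOpenEmbedding.injective ?_⟩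
      rw [← Scheme.Hom.comp_apply, pullback.lift_fst_assoc, Scheme.homOfLE_ι]
      rfl) hjo
    refine Scheme.Cover.hom_ext 𝒱 _ _ fun (P : K) => ?_
    show jm P ≫ _ = jm P ≫ _
    rw [pullback.lift_fst_assoc, pullback.lift_snd_assoc, hx, hx]
  let i : Z ⟶ colimit F := 𝒰.glueMorphisms x hcompat
  have hi : ∀ V : J, V.1.1.ι ≫ i = iZ V ≫ colimit.ι F V := fun V =>
    Scheme.Cover.ι_glueMorphisms 𝒰 x hcompat V
  have hnat : ∀ (V W : J) (f : V ⟶ W), F.map f ≫ hZ W = hZ V ≫ 𝟙 X := fun V W f => by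
    rw [Category.comp_id]
    exact (hm V W (leOfHom f)).2
  let h' : colimit F ⟶ X := colimit.desc F ⟨X, { app := hZ, naturality := hnat }⟩
  have hh' : ∀ V, colimit.ι F V ≫ h' = hZ V := fun V => colimit.ι_desc _ V
  refine ⟨colimit F, i, h', ?_⟩
  have hih : i ≫ h' = h := Scheme.Cover.hom_ext 𝒰 _ _ fun (V : J) => by
    show V.1.1.ι ≫ i ≫ h' = V.1.1.ι ≫ h
    rw [reassoc_of% hi V, hh', (hu V).2.1]
  have sq : ∀ V : J, IsPullback (iZ V) V.1.1.ι (colimit.ι F V) i := fun V => by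
    refine IsOpenImmersion.isPullback (iZ V) V.1.1.ι (colimit.ι F V) i (hi V) (Opens.ext (Set.ext fun z => ?_))
    rw [Scheme.Opens.opensRange_ι]
    show i z ∈ Set.range (colimit.ι F V) ↔ z ∈ V.1.1
    constructor
    · rintro ⟨y, hy⟩
      obtain ⟨v, rfl⟩ := hsurj V y
      obtain ⟨W, hzW, -⟩ := hbasis ⊤ z trivial
      have : colimit.ι F V (iZ V v) = colimit.ι F W (iZ W ⟨z, hzW⟩) := by
        rw [hy, ← Scheme.Hom.comp_apply (iZ W), ← hi W]
        rfl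
      obtain ⟨P, fV, fW, p, -, hpW⟩ := (Scheme.IsLocallyDirected.ι_eq_ι_iff F).1 this
      obtain ⟨p₀, rfl⟩ := hsurj P p
      rw [Subsingleton.elim fW (homOfLE (leOfHom fW)), happ] at hpW
      have : p₀.1 = z := by simpa [Scheme.homOfLE_apply] using congrArg Subtype.val (hinj W hpW)
      exact this ▸ leOfHom fV p₀.2
    · intro hz
      exact ⟨iZ V ⟨z, hz⟩, by rw [← Scheme.Hom.comp_apply, ← hi V]; rfl⟩
  exact isUnivThickening_of_cover iZ (fun V : J => V.1.1.ι) (fun V => colimit.ι F V)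
    (fun z => by
      obtain ⟨V, y, rfl⟩ := Scheme.IsLocallyDirected.ι_jointly_surjective F z
      exact ⟨V, y, rfl⟩)
    sq hih fun V => by rw [hh']; exact hu V

end Groth.Agent.Thick15
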