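import Groth.Agent.Omega15.Geometry
import Groth.Agent.Thick15.Stalk

/-! The pullback to `Z` of the map of differentials of a universal thickening is an isomorphism. -/

set_option autoImplicit false
set_option backward.isDefEq.respectTransparency.types false
set_option backward.isDefEq.respectTransparency false
set_option linter.style.haveILetI false
universe u

open CategoryTheory AlgebraicGeometry TopologicalSpace Opposite
open scoped TensorProduct

noncomputable section

namespace Groth.Agent.Thick15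

open OmegaLib

variable {Z X S Z' : Scheme.{u}}

theorem pullSect_naturality (i : Z ⟶ Z') {M N : Z'.Modules} (φ : M ⟶ N) (U : Z'.Opens) (s : Γ(M, U)) :
    ((Scheme.Modules.pullback i).map φ).app (i ⁻¹ᵁ U) (OmegaSh.pullSect i M U s) =
      OmegaSh.pullSect i N U (φ.app U s) := by
  have := congr(Scheme.Modules.Hom.app $((Scheme.Modules.pullbackPushforwardAdjunction i).unit.naturality φ) U)
  exact (congr($this s)).symm

theorem isIso_pullback_map_compat {h : Z ⟶ X} (q : X ⟶ S) {i : Z ⟶ Z'} {h' : Z' ⟶ X}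
    (hu : OmegaSh.IsUnivThickening h i h')
    {ΩX : X.Modules} {dX : OmegaSh.Der q ΩX} (hdX : OmegaSh.IsUniversal dX)
    {ΩZ' : Z'.Modules} {dZ' : OmegaSh.Der (h' ≫ q) ΩZ'} (hdZ' : OmegaSh.IsUniversal dZ')
    {c : (Scheme.Modules.pullback h').obj ΩX ⟶ ΩZ'} (hc : OmegaSh.IsDiffCompat h' dX dZ' c) :
    IsIso ((Scheme.Modules.pullback i).map c) := by
  refine ModStalk.isIso_of_stalks _ fun z => ?_
  obtain ⟨T, hT, hxT, -⟩ := Opens.isBasis_iff_nbhd.mp S.isBasis_affineOpens (Opens.mem_top (q (h' (i z))))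
  have hxT' : (h' ≫ q) (i z) ∈ T := hxT
  letI := (h'.stalkMap (i z)).hom.toAlgebra
  letI := (i.stalkMap z).hom.toAlgebra
  letI : Algebra Γ(S, T) (X.presheaf.stalk (h' (i z))) :=
    (S.presheaf.germ T (q (h' (i z))) hxT ≫ q.stalkMap (h' (i z))).hom.toAlgebra
  letI : Algebra Γ(S, T) (Z'.presheaf.stalk (i z)) :=
    ((S.presheaf.germ T (q (h' (i z))) hxT ≫ q.stalkMap (h' (i z))) ≫ h'.stalkMap (i z)).hom.toAlgebra
  haveI : IsScalarTower Γ(S, T) (X.presheaf.stalk (h' (i z))) (Z'.presheaf.stalk (i z)) := .of_algebraMap_eq fun _ => rfl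
  letI : Algebra (X.presheaf.stalk (h' (i z))) (Z.presheaf.stalk z) := (h'.stalkMap (i z) ≫ i.stalkMap z).hom.toAlgebra
  haveI : IsScalarTower (X.presheaf.stalk (h' (i z))) (Z'.presheaf.stalk (i z)) (Z.presheaf.stalk z) :=
    .of_algebraMap_eq fun _ => rfl
  obtain ⟨EY, hEY⟩ := exists_stalk_equiv hdX hT (h' (i z)) hxT (fun r => rfl)
  obtain ⟨E₂, hE₂⟩ := exists_stalk_equiv hdZ' hT (i z) hxT' (fun r => by
    rw [Scheme.Hom.stalkMap_comp]; rfl)
  obtain ⟨E', hE'⟩ := exists_pullback_stalk_equiv h' ΩX (i z)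
  obtain ⟨EA, hEA⟩ := exists_pullback_stalk_equiv i ((Scheme.Modules.pullback h').obj ΩX) z
  obtain ⟨EB, hEB⟩ := exists_pullback_stalk_equiv i ΩZ' z
  have hu' := isUnivThickeningRing_stalk hu z
    (IsScalarTower.toAlgHom (X.presheaf.stalk (h' (i z))) (Z'.presheaf.stalk (i z)) (Z.presheaf.stalk z)) rfl rfl
  have hbij := bijective_baseChange (R := Γ(S, T)) hu'
  let cl : (DerSch.stalkFunctor Z' (i z)).obj ((Scheme.Modules.pullback h').obj ΩX) →ₗ[Z'.presheaf.stalk (i z)]
      (DerSch.stalkFunctor Z' (i z)).obj ΩZ' := ((DerSch.stalkFunctor Z' (i z)).map c).hom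
  let E₁ := (EY.baseChange (X.presheaf.stalk (h' (i z))) (Z'.presheaf.stalk (i z))).trans E'
  let L := KaehlerDifferential.mapBaseChange Γ(S, T) (X.presheaf.stalk (h' (i z))) (Z'.presheaf.stalk (i z))
  have key : ∀ (b : Z'.presheaf.stalk (i z)) (y : Ω[X.presheaf.stalk (h' (i z))⁄Γ(S, T)]),
      cl (E₁ (b ⊗ₜ y)) = E₂ (L (b ⊗ₜ y)) := by
    intro b y
    have hy : y ∈ Submodule.span (X.presheaf.stalk (h' (i z)))
        (Set.range (KaehlerDifferential.D Γ(S, T) (X.presheaf.stalk (h' (i z))))) := by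
      rw [KaehlerDifferential.span_range_derivation]; trivial
    induction hy using Submodule.span_induction generalizing b with
    | mem y hy =>
      obtain ⟨a, rfl⟩ := hy
      rw [show (b ⊗ₜ[X.presheaf.stalk (h' (i z))] KaehlerDifferential.D Γ(S, T) (X.presheaf.stalk (h' (i z))) a) =
        b • ((1 : Z'.presheaf.stalk (i z)) ⊗ₜ[X.presheaf.stalk (h' (i z))]
          KaehlerDifferential.D Γ(S, T) (X.presheaf.stalk (h' (i z))) a)
        by rw [TensorProduct.smul_tmul', smul_eq_mul, mul_one], map_smul, map_smul, map_smul, map_smul]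
      congr 1
      obtain ⟨U, hx, s, rfl⟩ := X.presheaf.exists_germ_eq (x := h' (i z)) a
      simp only [L, E₁, LinearEquiv.trans_apply, LinearEquiv.baseChange_tmul, KaehlerDifferential.mapBaseChange_tmul,
        one_smul, KaehlerDifferential.map_D, hEY, hE']
      rw [show algebraMap (X.presheaf.stalk (h' (i z))) (Z'.presheaf.stalk (i z))
          (X.presheaf.germ U (h' (i z)) hx s) = Z'.presheaf.germ (h' ⁻¹ᵁ U) (i z) hx (h'.app U s) from
        Scheme.Hom.germ_stalkMap_apply h' U (i z) hx s, hE₂]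
      show (DerSch.stalkFunctor Z' (i z)).map c _ = _
      rw [map_gm, hc]
    | zero => simp only [TensorProduct.tmul_zero, map_zero]
    | add y z _ _ hy hz => simp only [TensorProduct.tmul_add, map_add, hy b, hz b]
    | smul a y _ hy => rw [← TensorProduct.smul_tmul]; exact hy _
  have hcl : cl = E₂.toLinearMap ∘ₗ L ∘ₗ E₁.symm.toLinearMap := LinearMap.ext fun m => by
    obtain ⟨t, rfl⟩ := E₁.surjective m
    simp only [LinearMap.comp_apply, LinearEquiv.coe_coe, E₁.symm_apply_apply]
    induction t using TensorProduct.induction_on with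
    | zero => simp only [map_zero]
    | tmul b y => exact key b y
    | add u v hu hv => simp only [map_add, hu, hv]
  have hcB : Function.Bijective (cl.baseChange (Z.presheaf.stalk z)) := by
    rw [hcl, LinearMap.baseChange_comp, LinearMap.baseChange_comp]
    exact ((E₂.baseChange (Z'.presheaf.stalk (i z)) (Z.presheaf.stalk z)).bijective.comp hbij).comp
      (E₁.symm.baseChange (Z'.presheaf.stalk (i z)) (Z.presheaf.stalk z)).bijective
  let dl : (DerSch.stalkFunctor Z z).obj ((Scheme.Modules.pullback i).obj ((Scheme.Modules.pullback h').obj ΩX))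
      →ₗ[Z.presheaf.stalk z] (DerSch.stalkFunctor Z z).obj ((Scheme.Modules.pullback i).obj ΩZ') :=
    ((DerSch.stalkFunctor Z z).map ((Scheme.Modules.pullback i).map c)).hom
  have key2 : ∀ (b : Z.presheaf.stalk z) (m : (DerSch.stalkFunctor Z' (i z)).obj ((Scheme.Modules.pullback h').obj ΩX)),
      dl (EA (b ⊗ₜ m)) = EB (b ⊗ₜ cl m) := fun b m => by
    rw [show b ⊗ₜ[Z'.presheaf.stalk (i z)] m = b • ((1 : Z.presheaf.stalk z) ⊗ₜ[Z'.presheaf.stalk (i z)] m) by
        rw [TensorProduct.smul_tmul', smul_eq_mul, mul_one],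
      show b ⊗ₜ[Z'.presheaf.stalk (i z)] cl m = b • ((1 : Z.presheaf.stalk z) ⊗ₜ[Z'.presheaf.stalk (i z)] cl m) by
        rw [TensorProduct.smul_tmul', smul_eq_mul, mul_one], map_smul, map_smul, map_smul]
    congr 1
    obtain ⟨U, hU, s, rfl⟩ := TopCat.Presheaf.exists_germ_eq ((Scheme.Modules.pullback h').obj ΩX).presheaf (x := i z) m
    show (DerSch.stalkFunctor Z z).map _ (EA (1 ⊗ₜ gm _ U (i z) hU s)) = EB (1 ⊗ₜ cl (gm _ U (i z) hU s))
    rw [hEA, map_gm]
    show _ = EB (1 ⊗ₜ (DerSch.stalkFunctor Z' (i z)).map c (gm _ U (i z) hU s))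
    rw [map_gm, hEB, pullSect_naturality]
  have hfun : ∀ t, dl (EA t) = EB (cl.baseChange (Z.presheaf.stalk z) t) := fun t => by
    induction t using TensorProduct.induction_on with
    | zero => simp only [map_zero]
    | tmul b m => rw [key2, LinearMap.baseChange_tmul]
    | add u v hu hv => simp only [map_add, hu, hv]
  refine (ConcreteCategory.isIso_iff_bijective _).2 ?_
  show Function.Bijective dl
  have hd : Function.Bijective (dl ∘ EA) := by
    rw [show (dl ∘ EA) = EB ∘ cl.baseChange (Z.presheaf.stalk z) from funext hfun]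
    exact EB.bijective.comp hcB
  exact (Function.Bijective.of_comp_iff _ EA.bijective).1 hd

end Groth.Agent.Thick15
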