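import Groth.Agent.OmegaLib.ConormalStalk
import Groth.Agent.Thick15.Tm
import Groth.Agent.Thick15.OmegaPullback

/-! Stalks of the conormal sheaf of a first order thickening. -/

set_option autoImplicit false
set_option backward.isDefEq.respectTransparency.types false
set_option backward.isDefEq.respectTransparency false
set_option linter.style.haveILetI false
universe u

open CategoryTheory AlgebraicGeometry TopologicalSpace Opposite
open scoped TensorProduct

noncomputable section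

namespace Groth.Agent.Thick15

open OmegaLib

variable {Z Z' : Scheme.{u}}

/-- `κ` identifies the stalk at `z` of the conormal sheaf of `i` with the kernel of the stalk map. -/
def IsKappa (i : Z ⟶ Z') (z : Z) {y : Z'} (hy : i z = y)
    (κ : (DerSch.stalkFunctor Z z).obj (Omega.conormal i) →+ Z'.presheaf.stalk y) : Prop :=
  Function.Injective κ ∧ (∀ a, a ∈ Set.range κ ↔ tm i hy a = 0) ∧
    (∀ (a : Z'.presheaf.stalk y) m, κ ((tm i hy) a • m) = a * κ m) ∧
    ∀ (U : Z'.Opens) (hU : y ∈ U) (s : Γ(ClSub.idealMod i.ker, U)),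
      κ (gm _ (i ⁻¹ᵁ U) z (show i z ∈ U from hy ▸ hU) (OmegaSh.conormalSect i U s)) =
        Z'.presheaf.germ U y hU (OmegaSh.idealSect i.ker U s)

theorem exists_kappa {i : Z ⟶ Z'} (hi : MoreMor.IsFirstOrderThickening i) (z : Z) {y : Z'} (hy : i z = y) :
    ∃ κ, IsKappa i z hy κ := by
  subst hy
  haveI := hi.1.1
  letI := (i.stalkMap z).hom.toAlgebra
  obtain ⟨ι, hιinj, hι⟩ := exists_idealStalkMap i.ker (i z)
  obtain ⟨E, hE⟩ := exists_pullback_stalk_equiv i (ClSub.idealMod i.ker) z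
  have hzero : ∀ m, i.stalkMap z (ι m) = 0 := fun m =>
    (mem_range_idealStalkMap i z hι (ι m)).1 ⟨m, rfl⟩
  have hsq := ker_stalkMap_sq hi z
  have hkill : ∀ a, i.stalkMap z a = 0 → ∀ m, a * ι m = 0 := fun a ha m => by
    have : a * ι m ∈ RingHom.ker (i.stalkMap z).hom ^ 2 :=
      pow_two (RingHom.ker (i.stalkMap z).hom) ▸ Ideal.mul_mem_mul ha (hzero m)
    rwa [hsq, Ideal.mem_bot] at this
  have hsur := i.stalkMap_surjective z
  choose σ hσ using hsur
  have hσι : ∀ a m, σ (i.stalkMap z a) * ι m = a * ι m := fun a m => by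
    rw [← sub_eq_zero, ← sub_mul]
    exact hkill _ (by rw [map_sub, hσ, sub_self]) m
  let B : Z.presheaf.stalk z →ₗ[Z'.presheaf.stalk (i z)]
      (DerSch.stalkFunctor Z' (i z)).obj (ClSub.idealMod i.ker) →ₗ[Z'.presheaf.stalk (i z)] Z'.presheaf.stalk (i z) :=
    LinearMap.mk₂ _ (fun b m => σ b * ι m)
      (fun b b' m => by rw [← add_mul, ← hσι (σ b + σ b'), map_add, hσ, hσ])
      (fun a b m => by
        rw [smul_eq_mul, ← mul_assoc, ← hσι (a * σ b), map_mul, hσ]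
        rfl)
      (fun b m m' => by rw [map_add, mul_add])
      (fun a b m => by rw [map_smul, smul_eq_mul, smul_eq_mul, mul_left_comm])
  let μ := TensorProduct.lift B
  let M := (DerSch.stalkFunctor Z' (i z)).obj (ClSub.idealMod i.ker)
  have hμ : ∀ (b : Z.presheaf.stalk z) (m : M), μ (b ⊗ₜ m) = σ b * ι m := fun b m => rfl
  have hμ1 : ∀ m : M, μ ((1 : Z.presheaf.stalk z) ⊗ₜ m) = ι m := fun m => by
    rw [hμ, ← map_one (i.stalkMap z).hom, hσι, one_mul]
  have hone : ∀ t : Z.presheaf.stalk z ⊗[Z'.presheaf.stalk (i z)] M, ∃ m : M, t = (1 : Z.presheaf.stalk z) ⊗ₜ[Z'.presheaf.stalk (i z)] m := fun t => by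
    induction t using TensorProduct.induction_on with
    | zero => exact ⟨0, (TensorProduct.tmul_zero _ _).symm⟩
    | tmul b m =>
      refine ⟨σ b • m, ?_⟩
      rw [← TensorProduct.smul_tmul, Algebra.smul_def, mul_one]
      exact congrArg (· ⊗ₜ m) (hσ b).symm
    | add p q hp hq =>
      obtain ⟨m, rfl⟩ := hp
      obtain ⟨m', rfl⟩ := hq
      exact ⟨m + m', (TensorProduct.tmul_add _ _ _).symm⟩
  let κ : (DerSch.stalkFunctor Z z).obj (Omega.conormal i) →+ Z'.presheaf.stalk (i z) :=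
    AddMonoidHom.mk' (fun w => μ (E.symm w)) fun w w' =>
      (congrArg μ (map_add E.symm w w')).trans (map_add μ _ _)
  refine ⟨κ, fun w w' h => ?_, fun a => ?_, fun a w => ?_, fun U hU s => ?_⟩
  · apply E.symm.injective
    obtain ⟨m, hm⟩ := hone (E.symm w)
    obtain ⟨m', hm'⟩ := hone (E.symm w')
    have h' : μ (E.symm w) = μ (E.symm w') := h
    rw [hm, hm', hμ1, hμ1] at h'
    rw [hm, hm', hιinj h']
  · rw [tm_self]
    constructor
    · rintro ⟨w, rfl⟩
      obtain ⟨m, hm⟩ := hone (E.symm w)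
      show i.stalkMap z (μ (E.symm w)) = 0
      rw [hm, hμ1]
      exact hzero m
    · intro ha
      obtain ⟨m, hm⟩ := (mem_range_idealStalkMap i z hι a).2 ha
      exact ⟨E (1 ⊗ₜ m), by show μ (E.symm (E _)) = a; rw [LinearEquiv.symm_apply_apply, hμ1, hm]⟩
  · rw [tm_self]
    show μ (E.symm (i.stalkMap z a • w)) = a * μ (E.symm w)
    rw [map_smul]
    obtain ⟨m, hm⟩ := hone (E.symm w)
    rw [hm, hμ1, TensorProduct.smul_tmul', hμ, smul_eq_mul, mul_one, hσι]
  · show μ (E.symm (gm _ (i ⁻¹ᵁ U) z hU (OmegaSh.pullSect i (ClSub.idealMod i.ker) U s))) = _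
    rw [← hE U hU s]
    show μ (E.symm (E _)) = _
    rw [LinearEquiv.symm_apply_apply, hμ1, hι]

theorem app_eq_zero_of_subschemeι (i : Z ⟶ Z') {U : Z'.Opens} {a : Γ(Z', U)}
    (ha : i.ker.subschemeι.app U a = 0) : i.app U a = 0 := by
  rw [Scheme.Hom.congr_app i.toImage_imageι.symm U]
  show Z.presheaf.map _ ((i.toImage.app _) (i.ker.subschemeι.app U a)) = 0
  rw [ha, map_zero, map_zero]

theorem subschemeι_app_eq_zero (i : Z ⟶ Z') [IsClosedImmersion i] {U : Z'.Opens} {a : Γ(Z', U)}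
    (ha : i.app U a = 0) : i.ker.subschemeι.app U a = 0 := by
  rw [Scheme.Hom.congr_app ((Iso.inv_comp_eq (asIso i.toImage)).2 i.toImage_imageι.symm).symm U]
  show i.image.presheaf.map _ (((asIso i.toImage).inv.app _) (i.app U a)) = 0
  rw [ha, map_zero, map_zero]

variable {X X' W : Scheme.{u}} {i : Z ⟶ X} {i' : W ⟶ X'} {g : X ⟶ X'} {gZ : Z ⟶ W}

/-- The stalk of a map of conormal sheaves of closed immersions, on pulled back classes. -/
theorem kappa_conormalMap {φ : (Scheme.Modules.pullback gZ).obj (Omega.conormal i') ⟶ Omega.conormal i}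
    (hφ : OmegaSh.IsConormalMap i i' g gZ φ) [IsClosedImmersion i] (z : Z) {y : X} (hy : i z = y) {w : W} (hw : gZ z = w)
    {y' : X'} (hy' : g y = y') (hwy : i' w = y')
    {κ : (DerSch.stalkFunctor Z z).obj (Omega.conormal i) →+ X.presheaf.stalk y} (hκ : IsKappa i z hy κ)
    {κ' : (DerSch.stalkFunctor W w).obj (Omega.conormal i') →+ X'.presheaf.stalk y'} (hκ' : IsKappa i' w hwy κ')
    (U' : X'.Opens) (hU' : y' ∈ U') (s' : Γ(ClSub.idealMod i'.ker, U')) :
    κ ((DerSch.stalkFunctor Z z).map φ (gm _ (gZ ⁻¹ᵁ (i' ⁻¹ᵁ U')) z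
        (show i' (gZ z) ∈ U' by rw [hw, hwy]; exact hU')
        (OmegaSh.pullSect gZ (Omega.conormal i') (i' ⁻¹ᵁ U') (OmegaSh.conormalSect i' U' s')))) =
      tm g hy' (κ' (gm _ (i' ⁻¹ᵁ U') w (show i' w ∈ U' by rw [hwy]; exact hU') (OmegaSh.conormalSect i' U' s'))) := by
  rw [hκ'.2.2.2 U' hU' s', germ_tm g hy' U' hU', map_gm]
  have hker' : i'.app U' (OmegaSh.idealSect i'.ker U' s') = 0 :=
    app_eq_zero_of_subschemeι i' ((AmpleLib.mem_range_idealModι _ _ _).1 ⟨_, rfl⟩)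
  have hker : i.app (g ⁻¹ᵁ U') (g.app U' (OmegaSh.idealSect i'.ker U' s')) = 0 := by
    show (g.app U' ≫ i.app (g ⁻¹ᵁ U')) _ = 0
    rw [← Scheme.Hom.comp_app, Scheme.Hom.congr_app hφ.1.symm U']
    show Z.presheaf.map _ (gZ.app _ (i'.app U' _)) = 0
    rw [hker', map_zero, map_zero]
  obtain ⟨s, hs⟩ := (AmpleLib.mem_range_idealModι i.ker (g ⁻¹ᵁ U') _).2 (subschemeι_app_eq_zero i hker)
  have h1 : z ∈ gZ ⁻¹ᵁ (i' ⁻¹ᵁ U') := show i' (gZ z) ∈ U' by rw [hw, hwy]; exact hU'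
  have h2 : z ∈ i ⁻¹ᵁ (g ⁻¹ᵁ U') := show g (i z) ∈ U' by rw [hy, hy']; exact hU'
  let V : Z.Opens := gZ ⁻¹ᵁ (i' ⁻¹ᵁ U') ⊓ i ⁻¹ᵁ (g ⁻¹ᵁ U')
  have e := hφ.2 U' s' s hs V inf_le_left inf_le_right
  have e' := congrArg (gm (Omega.conormal i) V z ⟨h1, h2⟩) e
  rw [gm_res _ h1 inf_le_left, gm_res _ h2 inf_le_right] at e'
  rw [e', hκ.2.2.2 (g ⁻¹ᵁ U') (show g y ∈ U' by rw [hy']; exact hU') s]
  exact congrArg _ hs

theorem exists_gm_conormalSect (i : Z ⟶ Z') [IsClosedImmersion i] (z : Z)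
    (w : (DerSch.stalkFunctor Z z).obj (Omega.conormal i)) :
    ∃ (U : Z'.Opens) (hU : i z ∈ U) (s : Γ(ClSub.idealMod i.ker, U)),
      w = gm _ (i ⁻¹ᵁ U) z hU (OmegaSh.conormalSect i U s) := by
  letI := (i.stalkMap z).hom.toAlgebra
  obtain ⟨E, hE⟩ := exists_pullback_stalk_equiv i (ClSub.idealMod i.ker) z
  obtain ⟨t, rfl⟩ := E.surjective w
  obtain ⟨m, rfl⟩ : ∃ m, (1 : Z.presheaf.stalk z) ⊗ₜ[Z'.presheaf.stalk (i z)] m = t := by
    induction t using TensorProduct.induction_on with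
    | zero => exact ⟨0, TensorProduct.tmul_zero _ _⟩
    | tmul b m =>
      obtain ⟨a, rfl⟩ := i.stalkMap_surjective z b
      refine ⟨a • m, ?_⟩
      rw [← TensorProduct.smul_tmul, Algebra.smul_def, mul_one]
      rfl
    | add p q hp hq =>
      obtain ⟨m, rfl⟩ := hp
      obtain ⟨m', rfl⟩ := hq
      exact ⟨m + m', TensorProduct.tmul_add _ _ _⟩
  obtain ⟨U, hU, s, rfl⟩ := exists_gm _ m
  exact ⟨U, hU, s, hE U hU s⟩

end Groth.Agent.Thick15
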