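import Groth.Prelude.Def_Omega3
import Groth.Agent.Thick15.Construct
import Groth.Agent.Thick15.Deriv

/-! The structure map of a universal thickening is formally unramified. -/

universe u

open CategoryTheory Limits AlgebraicGeometry TopologicalSpace

namespace Groth.Agent.Thick15

theorem exists_chart_unramified {Z X : Scheme.{u}} (h : Z ⟶ X) [FormallyUnramified h] (V : Z.Opens)
    (hV : IsAffineOpen V) (U : X.Opens) (hU : IsAffineOpen U) (e : V ≤ h ⁻¹ᵁ U) :
    ∃ (Z' : Scheme.{u}) (i : V.toScheme ⟶ Z') (h' : Z' ⟶ X),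
      OmegaSh.IsUnivThickening (V.ι ≫ h) i h' ∧ FormallyUnramified h' := by
  have hfu := h.formallyUnramified_appLE hU hV e
  algebraize [(h.appLE U V e).hom]
  obtain ⟨S', _, _, q, hq⟩ := exists_univThickening Γ(X, U) Γ(Z, V)
  have hs := isUnivThickening_precomp_iso (isUnivThickening_postcomp (isUnivThickening_spec hq) hU.fromSpec) hV.isoSpec.hom
  have he : hV.isoSpec.hom ≫ Spec.map (CommRingCat.ofHom (algebraMap Γ(X, U) Γ(Z, V))) ≫ hU.fromSpec = V.ι ≫ h := by
    rw [show CommRingCat.ofHom (algebraMap Γ(X, U) Γ(Z, V)) = h.appLE U V e from rfl,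
      IsAffineOpen.SpecMap_appLE_fromSpec h hU hV e, IsAffineOpen.isoSpec_hom_fromSpec_assoc]
  rw [he] at hs
  haveI : FormallyUnramified (Spec.map (CommRingCat.ofHom (algebraMap Γ(X, U) S'))) := by
    rw [HasRingHomProperty.Spec_iff (P := @FormallyUnramified)]
    exact (RingHom.formallyUnramified_algebraMap).2 (formallyUnramified hq)
  exact ⟨_, _, _, hs, MorphismProperty.comp_mem @FormallyUnramified _ _ (by assumption) inferInstance⟩

theorem formallyUnramified_of_isUnivThickening {Z Z' X : Scheme.{u}} {h : Z ⟶ X} [FormallyUnramified h]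
    {i : Z ⟶ Z'} {h' : Z' ⟶ X} (hu : OmegaSh.IsUnivThickening h i h') : FormallyUnramified h' := by
  haveI := hu.1.1.1
  let J := {O : Z'.Opens // ∃ (U : X.affineOpens) (V : Z.affineOpens), i ⁻¹ᵁ O = V.1 ∧ V.1 ≤ h ⁻¹ᵁ U.1}
  refine IsZariskiLocalAtSource.of_iSup_eq_top (P := @FormallyUnramified) (fun O : J => O.1)
    (top_le_iff.1 fun z' _ => ?_) fun O => ?_
  · obtain ⟨z, rfl⟩ := surjective_mor hu.1 z'
    obtain ⟨U, hU, hzU, -⟩ := Opens.isBasis_iff_nbhd.1 X.isBasis_affineOpens (U := ⊤) (Opens.mem_top (h z))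
    obtain ⟨V, hV, hzV, hVle⟩ := Opens.isBasis_iff_nbhd.1 Z.isBasis_affineOpens (U := h ⁻¹ᵁ U) hzU
    obtain ⟨O, hO, hOe⟩ := i.isClosedEmbedding.isInducing.isOpen_iff.1 V.2
    have hzO : z ∈ i ⁻¹' O := hOe ▸ hzV
    exact Opens.mem_iSup.2 ⟨⟨⟨O, hO⟩, ⟨U, hU⟩, ⟨V, hV⟩, Opens.ext hOe, hVle⟩, hzO⟩
  · obtain ⟨O, U, V, hV, hVU⟩ := O
    obtain ⟨Z₁, i₁, h₁, hu₁, hfu⟩ := exists_chart_unramified h V.1 V.2 U.1 U.2 hVU
    have hres := isUnivThickening_of_isPullback hu (isPullback_resLE_of_eq i hV)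
    obtain ⟨φ, -, hφ⟩ := exists_iso hres hu₁
    show FormallyUnramified (O.ι ≫ h')
    rw [← hφ]
    exact MorphismProperty.RespectsIso.precomp @FormallyUnramified φ.hom h₁ hfu

end Groth.Agent.Thick15
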