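import Groth.Agent.Thick15.LeftExact
import Groth.Agent.Thick15.Sequence
import Groth.Agent.Synt15.LCIPermanence

/-!
# The conormal sequence is short exact along a local complete intersection
-/

set_option autoImplicit false
set_option backward.isDefEq.respectTransparency.types false
set_option backward.isDefEq.respectTransparency false
universe u

open CategoryTheory CategoryTheory.Limits AlgebraicGeometry TopologicalSpace Opposite
open scoped TensorProduct

noncomputable section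

namespace Groth.Agent.Thick15

open OmegaLib

variable {Z Y X Z' Y' : Scheme.{u}}

theorem conormalMap_stalk_injective {i : Z ⟶ Y} {b : Y ⟶ X}
    {i' : Z ⟶ Z'} {c : Z' ⟶ X} (hZ' : OmegaSh.IsUnivThickening (i ≫ b) i' c)
    {j : Y ⟶ Y'} {d : Y' ⟶ X} (hY' : OmegaSh.IsUnivThickening b j d)
    {m : Z' ⟶ Y'} (hm₁ : i' ≫ m = i ≫ j) (hm₂ : m ≫ d = c)
    {ψ₁ : (Scheme.Modules.pullback i).obj (Omega.conormal j) ⟶ Omega.conormal i'}
    (hψ₁ : OmegaSh.IsConormalMap i' j m i ψ₁) (z : Z) (hk : Synt.IsKoszulAt i z)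
    (v : (DerSch.stalkFunctor Z z).obj ((Scheme.Modules.pullback i).obj (Omega.conormal j)))
    (hv : (DerSch.stalkFunctor Z z).map ψ₁ v = 0) : v = 0 := by
  haveI := hZ'.1.1.1
  haveI := hY'.1.1.1
  have pm : m (i' z) = j (i z) := congrArg (fun f : Z ⟶ Y' => f z) hm₁
  have pc : c (i' z) = d (j (i z)) := by
    rw [← pm, ← Scheme.Hom.comp_apply m d, hm₂]
  obtain ⟨κ', hκ'⟩ := exists_kappa hZ'.1 z (y := i' z) rfl
  obtain ⟨κj, hκj⟩ := exists_kappa hY'.1 (i z) (y := j (i z)) rfl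
  letI := (i.stalkMap z).hom.toAlgebra
  obtain ⟨E, hE⟩ := exists_pullback_stalk_equiv i (Omega.conormal j) z
  let F₁ : (DerSch.stalkFunctor Z z).obj ((Scheme.Modules.pullback i).obj (Omega.conormal j)) →ₗ[Z.presheaf.stalk z]
      (DerSch.stalkFunctor Z z).obj (Omega.conormal i') := ((DerSch.stalkFunctor Z z).map ψ₁).hom
  have hgen : ∀ w, κ' (F₁ (E (1 ⊗ₜ w))) = tm m pm (κj w) := fun w => by
    obtain ⟨U', hU', s', rfl⟩ := exists_gm_conormalSect j (i z) w
    rw [hE]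
    exact kappa_conormalMap hψ₁ z (y := i' z) rfl (w := i z) rfl pm rfl hκ' hκj U' hU' s'
  -- a chart of the local complete intersection
  obtain ⟨U, V, hU, hV, e, hzU, hl⟩ := Synt15.isKoszulPt_of_isKoszulAt i hk
  have hyV : i z ∈ V := e hzU
  letI : Algebra Γ(Y, V) Γ(Z, U) := (i.appLE V U e).hom.toAlgebra
  obtain ⟨-, N, α, hα, hI⟩ := hl
  let B : Type u := Y.presheaf.stalk (i z)
  let C : Type u := Z.presheaf.stalk z
  letI : Algebra Γ(Y, V) B := TopCat.Presheaf.algebra_section_stalk Y.presheaf ⟨i z, hyV⟩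
  haveI : IsLocalization.AtPrime B (hV.primeIdealOf ⟨i z, hyV⟩).asIdeal := hV.isLocalization_stalk ⟨i z, hyV⟩
  letI : Algebra Γ(Z, U) C := TopCat.Presheaf.algebra_section_stalk Z.presheaf ⟨z, hzU⟩
  haveI : IsLocalization.AtPrime C (hU.primeIdealOf ⟨z, hzU⟩).asIdeal := hU.isLocalization_stalk ⟨z, hzU⟩
  letI : Algebra Γ(Y, V) C := ((i.stalkMap z).hom.comp (Y.presheaf.germ V (i z) hyV).hom).toAlgebra
  haveI : IsScalarTower Γ(Y, V) B C := IsScalarTower.of_algebraMap_eq fun _ => rfl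
  haveI : IsScalarTower Γ(Y, V) Γ(Z, U) C := IsScalarTower.of_algebraMap_eq fun a => by
    show i.stalkMap z (Y.presheaf.germ V (i z) hyV a) = Z.presheaf.germ U z hzU (i.appLE V U e a)
    rw [Scheme.Hom.germ_stalkMap_apply, Scheme.Hom.appLE, CommRingCat.comp_apply, TopCat.Presheaf.germ_res_apply]
  have hjs : Function.Surjective (tm j (x := i z) rfl).hom := by rw [tm_self]; exact j.stalkMap_surjective _
  obtain ⟨P', P, iP', iP, aP', aP, π, n, g, hflat, hs, hker, hπ, hcomp, hg, hπk⟩ :=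
    LeftExact.exists_lift_presentation (B' := Y'.presheaf.stalk (j (i z))) (B := B) (C := C)
      (tm j (x := i z) rfl).hom hjs (hV.primeIdealOf ⟨i z, hyV⟩).asIdeal.primeCompl
      (hU.primeIdealOf ⟨z, hzU⟩).asIdeal α hα hI
  haveI := hflat
  let S := Ideal.span (Set.range g)
  let ρ : P' →+* C := π.comp (algebraMap P' P)
  have hS : ∀ x ∈ S, ρ x = 0 := fun x hx => by
    have h1 := Ideal.mem_map_of_mem (algebraMap P' P) hx
    rw [Ideal.map_span, ← Set.range_comp] at h1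
    exact hπk.ge h1
  let π₁ : P' ⧸ S →+* C := Ideal.Quotient.lift S ρ hS
  have hπ₁ : Function.Surjective π₁ := Ideal.Quotient.lift_surjective_of_surjective S hS (hπ.comp hs)
  have hsq : RingHom.ker π₁ ^ 2 = ⊥ := by
    have hle : RingHom.ker π₁ ≤ (RingHom.ker (algebraMap P' P)).map (Ideal.Quotient.mk S) := fun x hx => by
      obtain ⟨x, rfl⟩ := Ideal.Quotient.mk_surjective x
      have h1 : algebraMap P' P x ∈ RingHom.ker π := hx
      rw [hπk, show (fun i => algebraMap P' P (g i)) = algebraMap P' P ∘ g from rfl, Set.range_comp, ← Ideal.map_span,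
        Ideal.mem_map_iff_of_surjective _ hs] at h1
      obtain ⟨y, hy, hye⟩ := h1
      rw [show Ideal.Quotient.mk S x = Ideal.Quotient.mk S (x - y) by
        rw [map_sub, Ideal.Quotient.eq_zero_iff_mem.2 hy, sub_zero]]
      exact Ideal.mem_map_of_mem _ (RingHom.mem_ker.2 (by rw [map_sub, hye, sub_self]))
    refine le_bot_iff.1 ((Ideal.pow_right_mono hle 2).trans ?_)
    rw [← Ideal.map_pow, hker, ← Ideal.map_pow,
      show RingHom.ker (tm j (x := i z) rfl).hom ^ 2 = ⊥ by rw [tm_self]; exact ker_stalkMap_sq hY'.1 (i z),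
      Ideal.map_bot, Ideal.map_bot]
  let can : Y'.presheaf.stalk (j (i z)) →+* P' ⧸ S := (Ideal.Quotient.mk S).comp (algebraMap _ P')
  let β : X.presheaf.stalk (d (j (i z))) →+* P' ⧸ S := can.comp (tm d (x := j (i z)) rfl).hom
  have hcan : π₁.comp can = (i.stalkMap z).hom.comp (tm j (x := i z) rfl).hom := RingHom.ext fun b => hcomp b
  have hjm : (i.stalkMap z).hom.comp (tm j (x := i z) rfl).hom =
      (tm i' (x := z) rfl).hom.comp (tm m pm).hom := by
    rw [← tm_self i, ← CommRingCat.hom_comp, ← CommRingCat.hom_comp, tm_comm hm₁ rfl pm rfl rfl]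
  have hmd : (tm m pm).hom.comp (tm d (x := j (i z)) rfl).hom = (tm c pc).hom := by
    rw [← CommRingCat.hom_comp, tm_factor hm₂ pm rfl pc]
  obtain ⟨u, ⟨hu₁, hu₂⟩, -⟩ := existsUnique_lift_stalk hZ' z rfl pc π₁ hπ₁ hsq β (RingHom.id C) (by
    rw [← RingHom.comp_assoc, hcan, hjm, RingHom.comp_assoc, hmd, RingHom.id_comp])
  rw [RingHom.id_comp] at hu₁
  obtain ⟨l, -, hl'⟩ := existsUnique_lift_stalk hY' (i z) rfl rfl π₁ hπ₁ hsq β (i.stalkMap z).hom (by
    rw [← RingHom.comp_assoc, hcan, RingHom.comp_assoc])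
  have hum : u.comp (tm m pm).hom = can := (hl' _ ⟨by rw [← RingHom.comp_assoc, hu₁, hjm],
    by rw [RingHom.comp_assoc, hmd, hu₂]⟩).trans (hl' _ ⟨hcan, rfl⟩).symm
  let Θ : C ⊗[B] (DerSch.stalkFunctor Y (i z)).obj (Omega.conormal j) →+ Z'.presheaf.stalk (i' z) :=
    AddMonoidHom.mk' (fun t => κ' (F₁ (E t))) fun s t =>
      (congrArg (fun w => κ' (F₁ w)) (map_add E s t)).trans ((congrArg κ' (map_add F₁ _ _)).trans (map_add κ' _ _))
  have hΘ : ∀ a w, Θ ((tm i' (x := z) rfl).hom a ⊗ₜ w) = a * tm m pm (κj w) := fun a w => by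
    show κ' (F₁ (E ((tm i' (x := z) rfl).hom a ⊗ₜ w))) = _
    rw [show (tm i' (x := z) rfl).hom a ⊗ₜ[Y.presheaf.stalk (i z)] w =
      (tm i' (x := z) rfl).hom a • ((1 : Z.presheaf.stalk z) ⊗ₜ[Y.presheaf.stalk (i z)] w) by
        rw [TensorProduct.smul_tmul', smul_eq_mul, mul_one], map_smul, map_smul]
    exact (hκ'.2.2.1 a _).trans (congrArg (a * ·) (hgen w))
  obtain ⟨t, rfl⟩ := E.surjective v
  have h0 : t = 0 := LeftExact.injective_of_lift (tm j (x := i z) rfl).hom hjs hs hker π hπ hcomp g hg hπk κj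
    hκj.1 hκj.2.1 hκj.2.2.1 u (tm i' (x := z) rfl).hom
    (fun a x hx => by
      have h := RingHom.congr_fun hu₁ a
      rw [RingHom.comp_apply, hx] at h
      exact h)
    (tm m pm).hom (fun b _ => RingHom.congr_fun hum b) Θ hΘ (by rw [tm_self]; exact i'.stalkMap_surjective z) t
    (by
      show κ' (F₁ (E t)) = 0
      rw [show F₁ (E t) = 0 from hv, map_zero])
  rw [h0, map_zero]

theorem mono_conormalMap {i : Z ⟶ Y} {b : Y ⟶ X}
    {i' : Z ⟶ Z'} {c : Z' ⟶ X} (hZ' : OmegaSh.IsUnivThickening (i ≫ b) i' c)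
    {j : Y ⟶ Y'} {d : Y' ⟶ X} (hY' : OmegaSh.IsUnivThickening b j d)
    {m : Z' ⟶ Y'} (hm₁ : i' ≫ m = i ≫ j) (hm₂ : m ≫ d = c)
    {ψ₁ : (Scheme.Modules.pullback i).obj (Omega.conormal j) ⟶ Omega.conormal i'}
    (hψ₁ : OmegaSh.IsConormalMap i' j m i ψ₁) (hlci : ∀ z : Z, Synt.IsKoszulAt i z) : Mono ψ₁ :=
  Preadditive.mono_of_cancel_zero _ fun g hg => hom_eq_zero_of_stalks g fun z v =>
    conormalMap_stalk_injective hZ' hY' hm₁ hm₂ hψ₁ z (hlci z) _ (by
      have h := congrArg (fun f => (DerSch.stalkFunctor Z z).map f v) hg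
      simp only [Functor.map_comp, Functor.map_zero] at h
      exact h)

end Groth.Agent.Thick15
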