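import Groth.Agent.CAlgH.KoszulRegular
import Groth.Agent.FlatMorKoszul.Basic
import Mathlib.RingTheory.TensorProduct.MvPolynomial
import Mathlib.RingTheory.Flat.Localization

/-!
# Left exactness of the conormal sequence: algebra

Over a square-zero surjection `j : B' →+* B` a local complete intersection `B → C` lifts to
`B' → P'/(g)`, a thickening of `C` by `ker j ⊗ C`.
-/

set_option autoImplicit false
set_option backward.isDefEq.respectTransparency false

universe u

open TensorProduct
open Groth.Agent.Disc12.Koszul Groth.Agent.CAlgH.KoszulRegular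

noncomputable section

namespace Groth.Agent.Thick15.LeftExact

section Relation

variable {P' P : Type u} [CommRing P'] [CommRing P] [Algebra P' P] {n : ℕ}

theorem σp_one (v : Fin n → P') :
    σp (R := P) 1 ((exteriorPower.oneEquiv P' (Fin n → P')).symm v) =
      (exteriorPower.oneEquiv P (Fin n → P)).symm (fun i => algebraMap P' P (v i)) := by
  refine Subtype.ext ?_
  rw [show (exteriorPower.oneEquiv P' (Fin n → P')).symm v = exteriorPower.ιMulti P' 1 (fun _ => v) by
      rw [LinearEquiv.symm_apply_eq, exteriorPower.oneEquiv_ιMulti],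
    show (exteriorPower.oneEquiv P (Fin n → P)).symm (fun i => algebraMap P' P (v i)) =
        exteriorPower.ιMulti P 1 (fun _ => fun i => algebraMap P' P (v i)) by
      rw [LinearEquiv.symm_apply_eq, exteriorPower.oneEquiv_ιMulti]]
  show σ ((exteriorPower.ιMulti P' 1 fun _ => v : K P' n 1) : ExteriorAlgebra P' (Fin n → P')) = _
  simp only [exteriorPower.ιMulti_apply_coe, ExteriorAlgebra.ιMulti_apply, List.ofFn_succ, List.ofFn_zero,
    List.prod_cons, List.prod_nil, mul_one]
  exact σ_ι v

/-- Relations of a Koszul regular sequence lift to relations of any lift of it. -/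
theorem lift_relation (hs : Function.Surjective (algebraMap P' P)) (g : Fin n → P')
    (h : KReg fun i => algebraMap P' P (g i)) (c : Fin n → P')
    (hc : algebraMap P' P (∑ i, c i * g i) = 0) :
    ∃ c' : Fin n → P', (∀ i, algebraMap P' P (c' i) = algebraMap P' P (c i)) ∧ ∑ i, c' i * g i = 0 := by
  let E := exteriorPower.oneEquiv P' (Fin n → P')
  let a : Fin n → P := fun i => algebraMap P' P (c i)
  have hx : d (fun i => algebraMap P' P (g i)) 0 ((exteriorPower.oneEquiv P (Fin n → P)).symm a) = 0 := by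
    rw [d_one_oneEquiv_symm, functional_apply]
    simp only [map_sum, map_mul] at hc
    rw [hc, map_zero]
  obtain ⟨y, hy⟩ := (h 0 _).1 hx
  obtain ⟨y', rfl⟩ : ∃ y', σp (P := P') (R := P) (n := n) (0 + 1 + 1) y' = y := by
    clear hy
    induction y using (isBaseChange_σp (S := P) (n := n) (P := P') (0 + 1 + 1)).inductionOn with
    | zero => exact ⟨0, map_zero _⟩
    | tmul m => exact ⟨m, rfl⟩
    | smul r x hx =>
      obtain ⟨x', rfl⟩ := hx
      obtain ⟨r', rfl⟩ := hs r
      exact ⟨r' • x', by rw [map_smul]; exact (algebraMap_smul P r' _).symm⟩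
    | add x x' hx hx' =>
      obtain ⟨u, rfl⟩ := hx
      obtain ⟨u', rfl⟩ := hx'
      exact ⟨u + u', map_add _ _ _⟩
  refine ⟨E (d g (0 + 1) y'), fun i => ?_, ?_⟩
  · have h1 : σp (R := P) 1 (d g (0 + 1) y') = (exteriorPower.oneEquiv P (Fin n → P)).symm a := by
      rw [← hy]; exact σp_d g (0 + 1) y'
    rw [← E.symm_apply_apply (d g (0 + 1) y'), σp_one] at h1
    exact congrFun ((exteriorPower.oneEquiv P (Fin n → P)).symm.injective h1) i
  · have h2 : d g 0 (E.symm (E (d g (0 + 1) y'))) = 0 := by
      rw [E.symm_apply_apply]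
      exact LinearMap.congr_fun (d_d g 0) y'
    rw [d_one_oneEquiv_symm, functional_apply] at h2
    have := congrArg Subtype.val h2
    exact (ExteriorAlgebra.algebraMap_leftInverse (Fin n → P')).injective (this.trans (map_zero _).symm)

end Relation

variable {B' B C C' : Type u} [CommRing B'] [CommRing B] [CommRing C] [CommRing C'] [Algebra B C]

/-- The lifted complete intersection separates `C ⊗ ker j`. -/
theorem injective_of_lift {P' P : Type u} [CommRing P'] [CommRing P] [Algebra B' P'] [Algebra P' P]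
    [Module.Flat B' P'] (j : B' →+* B) (hj : Function.Surjective j)
    (hs : Function.Surjective (algebraMap P' P))
    (hker : RingHom.ker (algebraMap P' P) = (RingHom.ker j).map (algebraMap B' P'))
    (π : P →+* C) (hπ : Function.Surjective π)
    (hcomp : ∀ b, π (algebraMap P' P (algebraMap B' P' b)) = algebraMap B C (j b))
    {n : ℕ} (g : Fin n → P') (hg : KReg fun i => algebraMap P' P (g i))
    (hπk : RingHom.ker π = Ideal.span (Set.range fun i => algebraMap P' P (g i)))
    {M : Type u} [AddCommGroup M] [Module B M] (κ : M →+ B') (hκ : Function.Injective κ)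
    (hκr : ∀ b, b ∈ Set.range κ ↔ j b = 0) (hκs : ∀ b m, κ (j b • m) = b * κ m)
    (u : C' →+* P' ⧸ Ideal.span (Set.range g)) (p : C' →+* C)
    (hu : ∀ a x, u a = Ideal.Quotient.mk _ x → π (algebraMap P' P x) = p a)
    (μ : B' →+* C') (hμ : ∀ b, j b = 0 → u (μ b) = Ideal.Quotient.mk _ (algebraMap B' P' b))
    (Θ : C ⊗[B] M →+ C') (hΘ : ∀ a m, Θ (p a ⊗ₜ m) = a * μ (κ m)) (hp : Function.Surjective p)
    (t : C ⊗[B] M) (ht : Θ t = 0) : t = 0 := by
  let _ : Module B' M := Module.compHom M j
  let κl : M →ₗ[B'] B' := { toFun := κ, map_add' := map_add κ, map_smul' := fun b m => hκs b m }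
  let W : M ⊗[B'] P' →ₗ[B'] P' := (TensorProduct.lid B' P').toLinearMap ∘ₗ LinearMap.rTensor P' κl
  have hW : Function.Injective W :=
    (TensorProduct.lid B' P').injective.comp (Module.Flat.rTensor_preserves_injective_linearMap κl hκ)
  have hWt : ∀ m x, W (m ⊗ₜ x) = algebraMap B' P' (κ m) * x := fun m x => by
    show κ m • x = _
    exact Algebra.smul_def _ _
  let ρ : P' →+* C := π.comp (algebraMap P' P)
  have hρ : Function.Surjective ρ := hπ.comp hs
  -- reduction to `M ⊗ P'`
  let b₀ : M → P' → C ⊗[B] M := fun m x => ρ x ⊗ₜ m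
  let Ψ : M ⊗[B'] P' →+ C ⊗[B] M := TensorProduct.liftAddHom
    { toFun := fun m =>
        { toFun := fun x => b₀ m x
          map_zero' := by simp [b₀]
          map_add' := fun x y => by simp [b₀, TensorProduct.add_tmul] }
      map_zero' := by ext x; simp [b₀]
      map_add' := fun m m' => by ext x; simp [b₀, TensorProduct.tmul_add] }
    fun b m x => by
      show ρ x ⊗ₜ[B] (j b • m) = ρ (b • x) ⊗ₜ[B] m
      rw [← TensorProduct.smul_tmul, Algebra.smul_def b x, map_mul, Algebra.smul_def]
      congr 2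
      exact (hcomp b).symm
  have hΨs : Function.Surjective Ψ := fun s => by
    induction s using TensorProduct.induction_on with
    | zero => exact ⟨0, map_zero _⟩
    | tmul c m => obtain ⟨x, rfl⟩ := hρ c; exact ⟨m ⊗ₜ x, rfl⟩
    | add a b ha hb =>
      obtain ⟨a', rfl⟩ := ha
      obtain ⟨b', rfl⟩ := hb
      exact ⟨a' + b', map_add _ _ _⟩
  have hK0 : ∀ y ∈ RingHom.ker (algebraMap P' P), ∀ m, algebraMap B' P' (κ m) * y = 0 := fun y hy m => by
    rw [hker, Ideal.map] at hy
    induction hy using Submodule.span_induction with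
    | mem y hy =>
      obtain ⟨b, hb, rfl⟩ := hy
      rw [← map_mul, mul_comm, ← hκs, RingHom.mem_ker.1 hb, zero_smul, map_zero, map_zero]
    | zero => rw [mul_zero]
    | add x y _ _ hx hy => rw [mul_add, hx, hy, add_zero]
    | smul r x _ hx => rw [smul_eq_mul, mul_left_comm, hx, mul_zero]
  have hker_le : ∀ a, p a = 0 → ∀ x, u a = Ideal.Quotient.mk _ x →
      x ∈ RingHom.ker (algebraMap P' P) ⊔ Ideal.span (Set.range g) := fun a ha x hx => by
    have hx' : algebraMap P' P x ∈ Ideal.span (Set.range fun i => algebraMap P' P (g i)) := by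
      rw [← hπk]
      exact (hu a x hx).trans ha
    rw [show (fun i => algebraMap P' P (g i)) = algebraMap P' P ∘ g from rfl, Set.range_comp, ← Ideal.map_span,
      Ideal.mem_map_iff_of_surjective _ hs] at hx'
    obtain ⟨y, hy, hye⟩ := hx'
    rw [← sub_add_cancel x y]
    exact Submodule.add_mem_sup (RingHom.mem_ker.2 (by rw [map_sub, hye, sub_self])) hy
  -- the value of `u ∘ Θ`
  have huΘ : ∀ s, u (Θ (Ψ s)) = Ideal.Quotient.mk _ (W s) := fun s => by
    induction s using TensorProduct.induction_on with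
    | zero => simp
    | tmul m x =>
      obtain ⟨a, ha⟩ := hp (ρ x)
      obtain ⟨y, hy⟩ := Ideal.Quotient.mk_surjective (u a)
      show u (Θ (ρ x ⊗ₜ m)) = _
      rw [← ha, hΘ, map_mul, hμ _ ((hκr _).1 ⟨m, rfl⟩), ← hy, ← map_mul, hWt, Ideal.Quotient.eq]
      have h1 : π (algebraMap P' P (y - x)) = 0 := by
        rw [map_sub, map_sub, hu a y hy.symm, sub_eq_zero]
        exact ha
      rw [← RingHom.mem_ker, hπk, show (fun i => algebraMap P' P (g i)) = algebraMap P' P ∘ g from rfl,
        Set.range_comp, ← Ideal.map_span, Ideal.mem_map_iff_of_surjective _ hs] at h1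
      obtain ⟨w, hw, hwe⟩ := h1
      have h2 := hK0 _ (RingHom.mem_ker.2 (by rw [map_sub, hwe, sub_self] : algebraMap P' P (y - x - w) = 0)) m
      rw [show y * algebraMap B' P' (κ m) - algebraMap B' P' (κ m) * x = algebraMap B' P' (κ m) * w by
        linear_combination h2]
      exact Ideal.mul_mem_left _ _ hw
    | add a b ha hb => rw [map_add, map_add, map_add, map_add, map_add, ha, hb]
  obtain ⟨s, rfl⟩ := hΨs t
  have hx0 : W s ∈ Ideal.span (Set.range g) := by
    rw [← Ideal.Quotient.eq_zero_iff_mem, ← huΘ, ht, map_zero]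
  obtain ⟨c, hc⟩ := Ideal.mem_span_range_iff_exists_fun.1 hx0
  have hWker : algebraMap P' P (W s) = 0 := by
    rw [← RingHom.mem_ker, hker]
    clear hc hx0 ht huΘ
    induction s using TensorProduct.induction_on with
    | zero => simp
    | tmul m x =>
      rw [hWt]
      exact Ideal.mul_mem_right _ _ (Ideal.mem_map_of_mem _ ((hκr _).1 ⟨m, rfl⟩))
    | add a b ha hb => rw [map_add]; exact Ideal.add_mem _ ha hb
  obtain ⟨c', hc', hc'0⟩ := lift_relation hs g hg c (by rw [hc, hWker])
  -- the value is a combination of `κ`-values with coefficients in the span of `g`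
  have hrep : ∀ e ∈ RingHom.ker (algebraMap P' P), ∀ k, ∃ w : M ⊗[B'] P', Ψ w = 0 ∧ W w = e * g k := fun e he k => by
    rw [hker, Ideal.map] at he
    induction he using Submodule.span_induction with
    | mem e he =>
      obtain ⟨b, hb, rfl⟩ := he
      obtain ⟨m, rfl⟩ := (hκr b).2 hb
      refine ⟨m ⊗ₜ g k, ?_, hWt m _⟩
      show ρ (g k) ⊗ₜ[B] m = 0
      rw [show ρ (g k) = 0 from (RingHom.mem_ker).1 (hπk.ge (Ideal.subset_span ⟨k, rfl⟩)), TensorProduct.zero_tmul]
    | zero => exact ⟨0, map_zero _, by rw [map_zero, zero_mul]⟩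
    | add x y _ _ hx hy =>
      obtain ⟨v, hv, hv'⟩ := hx
      obtain ⟨w, hw, hw'⟩ := hy
      exact ⟨v + w, by rw [map_add, hv, hw, add_zero], by rw [map_add, hv', hw', add_mul]⟩
    | smul r x _ hx =>
      obtain ⟨v, hv, hv'⟩ := hx
      refine ⟨LinearMap.lTensor M (LinearMap.mulLeft B' r) v, ?_, ?_⟩
      · have key : ∀ v, Ψ (LinearMap.lTensor M (LinearMap.mulLeft B' r) v) = ρ r • Ψ v := fun v => by
          induction v using TensorProduct.induction_on with
          | zero => simp
          | tmul m x =>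
            show ρ (r * x) ⊗ₜ[B] m = ρ r • (ρ x ⊗ₜ[B] m)
            rw [TensorProduct.smul_tmul', smul_eq_mul, map_mul]
          | add a b ha hb => rw [map_add, map_add, map_add, smul_add, ha, hb]
        rw [key, hv, smul_zero]
      · have key : ∀ v, W (LinearMap.lTensor M (LinearMap.mulLeft B' r) v) = r * W v := fun v => by
          induction v using TensorProduct.induction_on with
          | zero => simp
          | tmul m x =>
            rw [LinearMap.lTensor_tmul, hWt, hWt, LinearMap.mulLeft_apply, mul_left_comm]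
          | add a b ha hb => rw [map_add, map_add, map_add, mul_add, ha, hb]
        rw [key, hv', smul_eq_mul, mul_assoc]
  choose w hw0 hwW using fun k => hrep (c k - c' k) (by rw [RingHom.mem_ker, map_sub, hc', sub_self]) k
  have hsum : s = ∑ k, w k := hW (by
    rw [map_sum, ← hc]
    simp only [hwW, sub_mul, Finset.sum_sub_distrib, hc'0, sub_zero])
  rw [hsum, map_sum]
  exact Finset.sum_eq_zero fun k _ => hw0 k

/-- Generators of a Koszul regular ideal after a flat map to a localisation at the prime. -/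
theorem exists_kreg_of_isKoszulRegularIdeal {R₀ P : Type u} [CommRing R₀] [CommRing P] (φ : R₀ →+* P) (hφ : φ.Flat)
    {I : Ideal R₀} (hI : LCI.IsKoszulRegularIdeal I) (Q₀ : PrimeSpectrum R₀) (hle : I ≤ Q₀.asIdeal)
    (hu : ∀ r, r ∉ Q₀.asIdeal → IsUnit (φ r)) :
    ∃ (n : ℕ) (f : Fin n → R₀), (∀ i, f i ∈ I) ∧ KReg (fun i => φ (f i)) ∧
      I.map φ = Ideal.span (Set.range fun i => φ (f i)) := by
  obtain ⟨h, hh, n, f, hfI, hf, hspan⟩ := (FlatMorKoszul.isKoszulRegularIdeal_iff _).1 hI Q₀ hle
  let φL : Localization.Away h →+* P := IsLocalization.Away.lift h (hu h hh)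
  have hφL : ∀ r, φL (algebraMap R₀ _ r) = φ r := fun r => IsLocalization.Away.lift_eq h (hu h hh) r
  have hflat : φL.Flat := by
    let _ : Algebra R₀ P := φ.toAlgebra
    let _ : Algebra (Localization.Away h) P := φL.toAlgebra
    have : IsScalarTower R₀ (Localization.Away h) P := IsScalarTower.of_algebraMap_eq fun r => (hφL r).symm
    have : Module.Flat R₀ P := hφ
    exact (Module.flat_iff_of_isLocalization (Localization.Away h) (Submonoid.powers h) P).2 inferInstance
  refine ⟨n, f, hfI, by simpa only [hφL] using FlatMorKoszul.kreg_map hflat hf, ?_⟩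
  rw [show φ = φL.comp (algebraMap R₀ _) from RingHom.ext fun r => (hφL r).symm, ← Ideal.map_map, hspan,
    Ideal.map_span, ← Set.range_comp]
  rfl

/-- A Koszul regular presentation, localised and lifted along `j`. -/
theorem exists_lift_presentation {B₀ C₀ : Type u} [CommRing B₀] [CommRing C₀] [Algebra B₀ C₀]
    (j : B' →+* B) (hj : Function.Surjective j) [Algebra B₀ B] (S : Submonoid B₀) [IsLocalization S B]
    [Algebra C₀ C] (q : Ideal C₀) [q.IsPrime] [IsLocalization.AtPrime C q] [Algebra B₀ C]
    [IsScalarTower B₀ C₀ C] [IsScalarTower B₀ B C]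
    {N : ℕ} (α : MvPolynomial (Fin N) B₀ →ₐ[B₀] C₀) (hα : Function.Surjective α)
    (hI : LCI.IsKoszulRegularIdeal (RingHom.ker α.toRingHom)) :
    ∃ (P' P : Type u) (_ : CommRing P') (_ : CommRing P) (_ : Algebra B' P') (_ : Algebra P' P) (π : P →+* C) (n : ℕ)
      (g : Fin n → P'), Module.Flat B' P' ∧ Function.Surjective (algebraMap P' P) ∧
      RingHom.ker (algebraMap P' P) = (RingHom.ker j).map (algebraMap B' P') ∧ Function.Surjective π ∧
      (∀ b, π (algebraMap P' P (algebraMap B' P' b)) = algebraMap B C (j b)) ∧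
      KReg (fun i => algebraMap P' P (g i)) ∧
      RingHom.ker π = Ideal.span (Set.range fun i => algebraMap P' P (g i)) := by
  have : Module.Flat B₀ B := IsLocalization.flat B S
  let R := MvPolynomial (Fin N) B
  let R₀ := MvPolynomial (Fin N) B₀
  let R' := MvPolynomial (Fin N) B'
  have : IsLocalRing C := IsLocalization.AtPrime.isLocalRing C q
  let ε : R →ₐ[B] C := MvPolynomial.aeval fun i => algebraMap C₀ C (α (MvPolynomial.X i))
  let Q : Ideal R := (IsLocalRing.maximalIdeal C).comap ε
  let Q' : Ideal R' := Q.comap (MvPolynomial.map j)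
  let P := Localization.AtPrime Q
  let P' := Localization.AtPrime Q'
  let ι₀ : R₀ →+* R := MvPolynomial.map (algebraMap B₀ B)
  have hε₀ : ∀ r, ε (ι₀ r) = algebraMap C₀ C (α r) := by
    intro r
    have : (ε.toRingHom.comp ι₀) = (algebraMap C₀ C).comp α.toRingHom := by
      refine MvPolynomial.ringHom_ext (fun b => ?_) fun i => ?_
      · show ε (MvPolynomial.map (algebraMap B₀ B) (MvPolynomial.C b)) = algebraMap C₀ C (α (MvPolynomial.C b))
        rw [MvPolynomial.map_C, ← MvPolynomial.algebraMap_eq, AlgHom.commutes, ← MvPolynomial.algebraMap_eq,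
          AlgHom.commutes, ← IsScalarTower.algebraMap_apply, ← IsScalarTower.algebraMap_apply]
      · show ε (MvPolynomial.map (algebraMap B₀ B) (MvPolynomial.X i)) = algebraMap C₀ C (α (MvPolynomial.X i))
        rw [MvPolynomial.map_X, MvPolynomial.aeval_X]
    exact RingHom.congr_fun this r
  have hunit : ∀ y : Q.primeCompl, IsUnit (ε y) := fun y => IsLocalRing.notMem_maximalIdeal.1 y.2
  let π : P →+* C := IsLocalization.lift (M := Q.primeCompl) (g := ε.toRingHom) hunit
  let qq : P' →+* P := Localization.localRingHom Q' Q (MvPolynomial.map j) rfl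
  let _ : Algebra P' P := qq.toAlgebra
  have hqq : ∀ r, qq (algebraMap R' P' r) = algebraMap R P (MvPolynomial.map j r) :=
    fun r => Localization.localRingHom_to_map _ _ _ _ _
  have hπ : ∀ r, π (algebraMap R P r) = ε r := fun r => IsLocalization.lift_eq hunit r
  have hsR : Function.Surjective (MvPolynomial.map j : R' → R) := MvPolynomial.map_surjective j hj
  have hs : Function.Surjective (algebraMap P' P) := fun z => by
    obtain ⟨r, t, rfl⟩ := IsLocalization.exists_mk'_eq Q.primeCompl z
    obtain ⟨r', rfl⟩ := hsR r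
    obtain ⟨t', ht'⟩ := hsR t.1
    have htQ : t' ∉ Q' := fun h => t.2 (ht' ▸ h)
    refine ⟨IsLocalization.mk' P' r' (⟨t', htQ⟩ : Q'.primeCompl), ?_⟩
    show qq _ = _
    rw [Localization.localRingHom_mk']
    exact IsLocalization.mk'_eq_of_eq (by rw [← ht'])
  have hflatι : ι₀.Flat := by
    letI : Algebra R₀ R := ι₀.toAlgebra
    haveI : IsScalarTower B₀ R₀ R := IsScalarTower.of_algebraMap_eq fun b => by
      show algebraMap B₀ R b = MvPolynomial.map (algebraMap B₀ B) (MvPolynomial.C b)
      rw [MvPolynomial.map_C]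
      rfl
    have hpo : Algebra.IsPushout B₀ R₀ B R := inferInstance
    exact Module.Flat.isBaseChange B₀ R₀ B R hpo.out
  let φ : R₀ →+* P := (algebraMap R P).comp ι₀
  have hφ : φ.Flat := hflatι.comp (RingHom.flat_algebraMap_iff.2 (IsLocalization.flat P Q.primeCompl))
  -- the prime below
  let Q₀ : Ideal R₀ := q.comap α
  have hQ₀ : ∀ r, r ∉ Q₀ → IsUnit (φ r) := fun r hr => IsLocalization.map_units P
    (⟨ι₀ r, fun h => hr (by
      have h' : ε (ι₀ r) ∈ IsLocalRing.maximalIdeal C := h
      rw [hε₀] at h'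
      exact (IsLocalization.AtPrime.to_map_mem_maximal_iff C q _).1 h')⟩ : Q.primeCompl)
  obtain ⟨n, f, hfI, hkP, hIP⟩ := exists_kreg_of_isKoszulRegularIdeal φ hφ hI ⟨Q₀, inferInstance⟩ (fun r hr => by
      show α r ∈ q
      rw [show α r = 0 from hr]
      exact q.zero_mem) hQ₀
  choose g hg using fun i => hs (φ (f i))
  refine ⟨P', P, inferInstance, inferInstance, inferInstance, inferInstance, π, n, g, ?_, hs, ?_, ?_, ?_, ?_, ?_⟩
  · haveI : Module.Flat R' P' := IsLocalization.flat P' Q'.primeCompl
    exact Module.Flat.trans B' R' P'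
  · refine le_antisymm (fun z hz => ?_) (Ideal.map_le_iff_le_comap.2 fun b hb => ?_)
    · obtain ⟨r, t, rfl⟩ := IsLocalization.exists_mk'_eq Q'.primeCompl z
      have h0 : algebraMap R P (MvPolynomial.map j r) = 0 := by
        rw [← hqq, ← IsLocalization.mk'_spec P' r t, map_mul, show qq (IsLocalization.mk' P' r t) = 0 from hz, zero_mul]
      obtain ⟨⟨s, hsQ⟩, hs0⟩ := (IsLocalization.map_eq_zero_iff Q.primeCompl P _).1 h0
      obtain ⟨s', rfl⟩ := hsR s
      have hsQ' : s' ∉ Q' := hsQ
      have hmem : s' * r ∈ (RingHom.ker j).map (MvPolynomial.C : B' →+* R') := by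
        rw [← MvPolynomial.ker_map, RingHom.mem_ker, map_mul]
        exact hs0
      have h2 := Ideal.mem_map_of_mem (algebraMap R' P') hmem
      rw [Ideal.map_map, map_mul, Ideal.unit_mul_mem_iff_mem _ (IsLocalization.map_units P' (⟨s', hsQ'⟩ : Q'.primeCompl))] at h2
      rw [IsLocalization.mk'_eq_mul_mk'_one]
      exact Ideal.mul_mem_right _ _ h2
    · show qq (algebraMap R' P' (MvPolynomial.C b)) = 0
      rw [hqq, MvPolynomial.map_C, RingHom.mem_ker.1 hb, map_zero, map_zero]
  · intro c
    obtain ⟨a, t, rfl⟩ := IsLocalization.exists_mk'_eq q.primeCompl c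
    obtain ⟨a', rfl⟩ := hα a
    obtain ⟨t', ht'⟩ := hα t.1
    have htQ : t' ∉ Q₀ := fun h => t.2 (ht' ▸ h)
    obtain ⟨v, hv⟩ := hQ₀ t' htQ
    refine ⟨φ a' * (↑v⁻¹ : P), (IsLocalization.map_units C t).mul_left_injective ?_⟩
    show π (φ a' * _) * algebraMap C₀ C t.1 = IsLocalization.mk' C (α a') t * algebraMap C₀ C t.1
    rw [IsLocalization.mk'_spec, ← ht', ← hε₀, ← hπ, ← map_mul, mul_assoc, show algebraMap R P (ι₀ t') = (v : P) from hv.symm,
      Units.inv_mul, mul_one]
    exact (hπ _).trans (hε₀ a')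
  · intro b
    show π (qq (algebraMap R' P' (MvPolynomial.C b))) = _
    rw [hqq, MvPolynomial.map_C, hπ, ← MvPolynomial.algebraMap_eq, AlgHom.commutes]
  · simpa only [hg] using hkP
  · simp only [hg]
    refine le_antisymm (fun z hz => ?_) (Ideal.span_le.2 ?_)
    · obtain ⟨r, t, rfl⟩ := IsLocalization.exists_mk'_eq Q.primeCompl z
      have h0 : ε r = 0 := by
        rw [← hπ, ← IsLocalization.mk'_spec P r t, map_mul, show π (IsLocalization.mk' P r t) = 0 from hz, zero_mul]
      rw [← hIP, IsLocalization.mk'_eq_mul_mk'_one]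
      refine Ideal.mul_mem_right _ _ ?_
      let _ : Algebra R₀ R := ι₀.toAlgebra
      have hloc : IsLocalization (S.map (MvPolynomial.C : B₀ →+* R₀)) R := inferInstance
      obtain ⟨⟨r₀, ⟨_, b, hb, rfl⟩⟩, hr₀⟩ := IsLocalization.surj (S.map (MvPolynomial.C : B₀ →+* R₀)) r
      have h1 : algebraMap C₀ C (α r₀) = 0 := by
        rw [← hε₀]
        show ε (algebraMap R₀ R r₀) = 0
        rw [← hr₀, map_mul, h0, zero_mul]
      obtain ⟨⟨v, hvq⟩, hv⟩ := (IsLocalization.map_eq_zero_iff q.primeCompl C _).1 h1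
      obtain ⟨v', rfl⟩ := hα v
      have hmem : v' * r₀ ∈ RingHom.ker α.toRingHom := by
        show α (v' * r₀) = 0
        rw [map_mul]; exact hv
      have h2 := Ideal.mem_map_of_mem φ hmem
      have hub : IsUnit (φ (MvPolynomial.C b)) := hQ₀ _ (fun hq => by
        have hbC : IsUnit (algebraMap C₀ C (α (MvPolynomial.C b))) := by
          rw [← MvPolynomial.algebraMap_eq, AlgHom.commutes, ← IsScalarTower.algebraMap_apply,
            IsScalarTower.algebraMap_apply B₀ B C]
          exact (IsLocalization.map_units B (⟨b, hb⟩ : S)).map _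
        exact IsLocalRing.notMem_maximalIdeal.2 hbC ((IsLocalization.AtPrime.to_map_mem_maximal_iff C q _).2 hq))
      rw [map_mul, Ideal.unit_mul_mem_iff_mem _ (hQ₀ v' hvq), show φ r₀ = algebraMap R P (algebraMap R₀ R r₀) from rfl,
        ← hr₀, map_mul] at h2
      exact (Ideal.mul_unit_mem_iff_mem (Ideal.map φ (RingHom.ker α.toRingHom))
        (show IsUnit (algebraMap R P (algebraMap R₀ R (MvPolynomial.C b))) from hub)).1 h2
    · rintro _ ⟨i, rfl⟩
      show π (φ (f i)) = 0
      rw [show π (φ (f i)) = ε (ι₀ (f i)) from hπ _, hε₀, show α (f i) = 0 from hfI i, map_zero]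

end Groth.Agent.Thick15.LeftExact
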